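import Groth.Agent.Dynamic.Basic
import Mathlib.Algebra.Polynomial.Laurent

/-!
# The subgroups of points whose conjugated orbit has a limit
-/

set_option autoImplicit false
universe u

open LaurentPolynomial TensorProduct WithConv

namespace Groth.Agent.Dynamic

variable {k : Type u} [CommRing k] {A : Type u} [CommRing A] [HopfAlgebra k A]
  (lam : A →ₐc[k] k[T;T⁻¹]) {R : Type u} [CommRing R] [Algebra k R]

variable (k R) in
/-- The polynomials inside Laurent polynomials. -/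
noncomputable abbrev toL : Polynomial R →ₐ[k] R[T;T⁻¹] :=
  (Polynomial.toLaurentAlg (R := R)).restrictScalars k

variable (k R) in
/-- Evaluation at zero. -/
noncomputable abbrev ev0 : Polynomial R →ₐ[k] R :=
  (Polynomial.aeval (R := R) (0 : R)).restrictScalars k

lemma toL_injective : Function.Injective (toL k R) := Polynomial.toLaurent_injective

lemma ev0_apply (p : Polynomial R) : ev0 k R p = p.coeff 0 := by
  show Polynomial.aeval (0 : R) p = _
  rw [Polynomial.coeff_zero_eq_eval_zero]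
  rfl

variable (R) in
/-- The points whose orbit has a limit. -/
noncomputable def P : Subgroup (Pt k A R) := (push (toL k R)).range.comap (orb lam R)

variable (R) in
/-- The points whose orbit tends to the identity. -/
noncomputable def U : Subgroup (Pt k A R) :=
  ((push (ev0 k R)).ker.map (push (toL k R))).comap (orb lam R)

lemma mem_P {g : Pt k A R} : g ∈ P lam R ↔ ∃ h, push (toL k R) h = orb lam R g := Iff.rfl

lemma mem_U {g : Pt k A R} :
    g ∈ U lam R ↔ ∃ h, push (ev0 k R) h = 1 ∧ push (toL k R) h = orb lam R g := Iff.rfl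

lemma U_le_P : U lam R ≤ P lam R := fun g hg => by
  obtain ⟨h, -, hh⟩ := (mem_U lam).1 hg
  exact (mem_P lam).2 ⟨h, hh⟩

lemma limExists_iff (g : A →ₐ[k] R) : Dyn.LimExists k A lam R g ↔ toConv g ∈ P lam R := by
  rw [mem_P, ← conjOrbit_eq]
  constructor
  · rintro ⟨h, hh⟩
    exact ⟨toConv h, congrArg toConv hh⟩
  · rintro ⟨h, hh⟩
    exact ⟨h.ofConv, congrArg WithConv.ofConv hh⟩

lemma limIsOne_iff (g : A →ₐ[k] R) : Dyn.LimIsOne k A lam R g ↔ toConv g ∈ U lam R := by
  rw [mem_U, ← conjOrbit_eq]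
  constructor
  · rintro ⟨h, hh, h0⟩
    exact ⟨toConv h, congrArg toConv h0, congrArg toConv hh⟩
  · rintro ⟨h, h0, hh⟩
    exact ⟨h.ofConv, congrArg WithConv.ofConv hh, congrArg WithConv.ofConv h0⟩

lemma mem_range_toL (p : R[T;T⁻¹]) : p ∈ (toL k R).range ↔ ∀ n : ℤ, n < 0 → p.coeff n = 0 := by
  constructor
  · rintro ⟨q, rfl⟩ n hn
    by_contra h
    have h' : n ∈ (Polynomial.toLaurent q).coeff.support := Finsupp.mem_support_iff.2 h
    rw [LaurentPolynomial.support_coeff_toLaurent, Finset.mem_map] at h'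
    obtain ⟨m, -, rfl⟩ := h'
    simp only [Nat.castEmbedding_apply] at hn
    omega
  · intro h
    rw [← AddMonoidAlgebra.sum_coeff_single p]
    refine Subalgebra.sum_mem _ fun n hn => ?_
    have h0 : 0 ≤ n := by
      by_contra hneg
      exact (Finsupp.mem_support_iff.1 hn) (h n (lt_of_not_ge hneg))
    obtain ⟨m, rfl⟩ := Int.eq_ofNat_of_zero_le h0
    refine ⟨Polynomial.monomial m (p.coeff m), ?_⟩
    show Polynomial.toLaurent _ = _
    rw [Polynomial.toLaurent_C_mul_T, LaurentPolynomial.single_eq_C_mul_T]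

lemma exists_lift (f : A →ₐ[k] R[T;T⁻¹]) (hf : ∀ a, ∀ n : ℤ, n < 0 → (f a).coeff n = 0) :
    ∃ h : A →ₐ[k] Polynomial R, (toL k R).comp h = f := by
  refine ⟨(AlgEquiv.ofInjective (toL k R) toL_injective).symm.toAlgHom.comp
    (f.codRestrict (toL k R).range fun a => (mem_range_toL (k := k) _).2 (hf a)), ?_⟩
  refine AlgHom.ext fun a => ?_
  show toL k R ((AlgEquiv.ofInjective (toL k R) toL_injective).symm _) = f a
  exact congrArg Subtype.val
    ((AlgEquiv.ofInjective (toL k R) toL_injective).apply_symm_apply _)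

lemma mem_P_iff_coeff {g : Pt k A R} :
    g ∈ P lam R ↔ ∀ a, ∀ n : ℤ, n < 0 → g ((cA lam a).coeff n) = 0 := by
  rw [mem_P]
  constructor
  · rintro ⟨h, hh⟩ a n hn
    rw [← coeff_orb]
    exact (mem_range_toL (k := k) _).1 ⟨h a, congr($hh a)⟩ n hn
  · intro hg
    obtain ⟨h, hh⟩ := exists_lift (orb lam R g).ofConv
      fun a n hn => (coeff_orb lam g a n).trans (hg a n hn)
    exact ⟨toConv h, WithConv.ofConv_injective hh⟩

lemma coeff_toL_zero (q : Polynomial R) : (toL k R q).coeff 0 = q.coeff 0 := by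
  induction q using Polynomial.induction_on' with
  | add p q hp hq =>
    rw [map_add (toL k R), AddMonoidAlgebra.coeff_add, Finsupp.add_apply, hp, hq,
      Polynomial.coeff_add]
  | monomial m r =>
    show (Polynomial.toLaurent _).coeff 0 = _
    rw [Polynomial.toLaurent_C_mul_T, ← LaurentPolynomial.single_eq_C_mul_T,
      AddMonoidAlgebra.coeff_single, Polynomial.coeff_monomial, Finsupp.single_apply]
    simp

lemma mem_U_iff_coeff {g : Pt k A R} :
    g ∈ U lam R ↔ g ∈ P lam R ∧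
      ∀ a, g ((cA lam a).coeff 0) = algebraMap k R (Coalgebra.counit a) := by
  rw [mem_U]
  constructor
  · rintro ⟨h, h0, hh⟩
    refine ⟨(mem_P lam).2 ⟨h, hh⟩, fun a => ?_⟩
    have h1 : ev0 k R (h a) = algebraMap k R (Coalgebra.counit a) := congr($h0 a)
    have h2 : toL k R (h a) = (orb lam R g) a := congr($hh a)
    rw [← coeff_orb, ← h2, coeff_toL_zero, ← ev0_apply (k := k), h1]
  · rintro ⟨hg, h0⟩
    obtain ⟨h, hh⟩ := (mem_P lam).1 hg
    refine ⟨h, WithConv.ofConv_injective (AlgHom.ext fun a => ?_), hh⟩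
    have h2 : toL k R (h a) = (orb lam R g) a := congr($hh a)
    show ev0 k R (h a) = algebraMap k R (Coalgebra.counit a)
    rw [ev0_apply, ← coeff_toL_zero (k := k), h2, coeff_orb, h0]

/-- An ideal cutting out a functorial family of subgroups is a Hopf ideal. -/
lemma isHopfIdeal_of_subgroup (J : Ideal A)
    (H : ∀ (R : Type u) [CommRing R] [Algebra k R], Subgroup (Pt k A R))
    (hJ : ∀ (R : Type u) [CommRing R] [Algebra k R] (g : Pt k A R),
      (∀ a ∈ J, g a = 0) ↔ g ∈ H R) :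
    J.IsHopfIdeal k := by
  have hcou : ∀ x ∈ J, Coalgebra.counit (R := k) x = 0 := fun x hx =>
    (hJ k 1).2 (one_mem _) x hx
  have hcom : ∀ x ∈ J, TensorProduct.map (J.restrictScalars k).mkQ (J.restrictScalars k).mkQ
      (Coalgebra.comul x) = 0 := by
    intro x hx
    let q := Ideal.Quotient.mkₐ k J
    let g₁ : Pt k A ((A ⧸ J) ⊗[k] (A ⧸ J)) := toConv (Algebra.TensorProduct.includeLeft.comp q)
    let g₂ : Pt k A ((A ⧸ J) ⊗[k] (A ⧸ J)) :=
      toConv (Algebra.TensorProduct.includeRight.comp q)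
    have h₁ : g₁ ∈ H _ := (hJ _ g₁).1 fun a ha => by
      show (q a) ⊗ₜ[k] (1 : A ⧸ J) = 0
      rw [show q a = 0 from Ideal.Quotient.eq_zero_iff_mem.2 ha, zero_tmul]
    have h₂ : g₂ ∈ H _ := (hJ _ g₂).1 fun a ha => by
      show (1 : A ⧸ J) ⊗ₜ[k] (q a) = 0
      rw [show q a = 0 from Ideal.Quotient.eq_zero_iff_mem.2 ha, tmul_zero]
    have h := (hJ _ _).2 (mul_mem h₁ h₂) x hx
    rw [AlgHom.convMul_apply] at h
    have e : Algebra.TensorProduct.lift g₁.ofConv g₂.ofConv (fun _ _ => .all _ _) =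
        Algebra.TensorProduct.map q q := by
      ext a
      · show (q a ⊗ₜ[k] (1 : A ⧸ J)) * ((1 : A ⧸ J) ⊗ₜ[k] q 1) = q a ⊗ₜ[k] q 1
        simp
      · show (q 1 ⊗ₜ[k] (1 : A ⧸ J)) * ((1 : A ⧸ J) ⊗ₜ[k] q a) = q 1 ⊗ₜ[k] q a
        simp
    rw [e] at h
    exact h
  refine { counit_eq_zero := hcou, map_mkQ_comul_eq_zero := hcom, antipode_mem := fun x hx => ?_ }
  have hg : (toConv (Ideal.Quotient.mkₐ k J) : Pt k A (A ⧸ J)) ∈ H _ :=
    (hJ _ _).1 fun a ha => Ideal.Quotient.eq_zero_iff_mem.2 ha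
  exact Ideal.Quotient.eq_zero_iff_mem.1 ((hJ _ _).2 (inv_mem hg) x hx)

/-- The ideal of the negative weight components. -/
noncomputable def Jp : Ideal A :=
  Ideal.span {x | ∃ a, ∃ n : ℤ, n < 0 ∧ (cA lam a).coeff n = x}

/-- The ideal of the limit-one locus. -/
noncomputable def Ju : Ideal A :=
  Jp lam ⊔ Ideal.span {x | ∃ a, (cA lam a).coeff 0 - algebraMap k A (Coalgebra.counit a) = x}

lemma kill_span (g : Pt k A R) (s : Set A) :
    (∀ a ∈ Ideal.span s, g a = 0) ↔ ∀ a ∈ s, g a = 0 :=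
  (Ideal.span_le (I := RingHom.ker (g.ofConv : A →+* R)) : _ ↔ s ⊆ _)

lemma kill_Jp (g : Pt k A R) : (∀ a ∈ Jp lam, g a = 0) ↔ g ∈ P lam R := by
  rw [Jp, kill_span, mem_P_iff_coeff]
  constructor
  · exact fun h a n hn => h _ ⟨a, n, hn, rfl⟩
  · rintro h _ ⟨a, n, hn, rfl⟩
    exact h a n hn

lemma kill_Ju (g : Pt k A R) : (∀ a ∈ Ju lam, g a = 0) ↔ g ∈ U lam R := by
  rw [mem_U_iff_coeff, ← kill_Jp lam g]
  have hc : ∀ a, g ((cA lam a).coeff 0 - algebraMap k A (Coalgebra.counit a)) =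
      g ((cA lam a).coeff 0) - algebraMap k R (Coalgebra.counit a) := fun a => by
    show g.ofConv _ = _
    rw [map_sub, AlgHom.commutes]
  constructor
  · intro h
    refine ⟨fun a ha => h a (Ideal.mem_sup_left ha), fun a => ?_⟩
    exact sub_eq_zero.1 ((hc a).symm.trans (h _ (Ideal.mem_sup_right (Ideal.subset_span ⟨a, rfl⟩))))
  · rintro ⟨h₁, h₂⟩
    have h₃ : Ju lam ≤ RingHom.ker (g.ofConv : A →+* R) := by
      refine sup_le h₁ (Ideal.span_le.2 ?_)
      rintro _ ⟨a, rfl⟩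
      exact (hc a).trans (sub_eq_zero.2 (h₂ a))
    exact fun a ha => h₃ ha

lemma isHopfIdeal_Jp : (Jp lam).IsHopfIdeal k :=
  isHopfIdeal_of_subgroup _ (fun R _ _ => P lam R) fun _ _ _ g => kill_Jp lam g

lemma isHopfIdeal_Ju : (Ju lam).IsHopfIdeal k :=
  isHopfIdeal_of_subgroup _ (fun R _ _ => U lam R) fun _ _ _ g => kill_Ju lam g

end Groth.Agent.Dynamic
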