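import Mathlib.AlgebraicGeometry.Morphisms.FlatMono
import Mathlib.AlgebraicGeometry.Morphisms.Flat
import Mathlib.AlgebraicGeometry.Morphisms.FinitePresentation
import Mathlib.RingTheory.Etale.Basic
import Mathlib.RingTheory.Smooth.Flat

/-!
# A criterion for an open immersion of affine schemes by points
-/

set_option autoImplicit false
set_option linter.style.haveILetI false
universe u

open AlgebraicGeometry CategoryTheory

namespace Groth.Agent.Dynamic

variable {k A B : Type u} [CommRing k] [CommRing A] [Algebra k A] [CommRing B] [Algebra k B]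

/-- A map of finite presentation with unique extensions of points and infinitesimal lifting is an
open immersion on spectra. -/
theorem isOpenImmersion_of_points [Algebra.FiniteType k A] [Algebra.FinitePresentation k B]
    (μ : A →ₐ[k] B)
    (hinj : ∀ (C : Type u) [CommRing C] [Algebra k C] (r s : B →ₐ[k] C),
      r.comp μ = s.comp μ → r = s)
    (hlift : ∀ (C : Type u) [CommRing C] [Algebra k C] (I : Ideal C), I ^ 2 = ⊥ →
      ∀ (g : A →ₐ[k] C) (f₀ : B →ₐ[k] C ⧸ I), f₀.comp μ = (Ideal.Quotient.mkₐ k I).comp g →
        ∃ f : B →ₐ[k] C, f.comp μ = g) :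
    IsOpenImmersion (Spec.map (CommRingCat.ofHom μ.toRingHom)) := by
  letI algAB : Algebra A B := μ.toRingHom.toAlgebra
  haveI : IsScalarTower k A B := IsScalarTower.of_algebraMap_eq fun r => (μ.commutes r).symm
  haveI : Algebra.FinitePresentation A B :=
    Algebra.FinitePresentation.of_restrict_scalars_finitePresentation k A _
  haveI : Algebra.FormallyEtale A B := by
    refine Algebra.FormallyEtale.iff_comp_bijective.2 fun C _ _ I hI => ⟨fun r s _ => ?_, fun f₀ => ?_⟩
    · letI : Algebra k C := ((algebraMap A C).comp (algebraMap k A)).toAlgebra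
      haveI : IsScalarTower k A C := IsScalarTower.of_algebraMap_eq fun _ => rfl
      refine AlgHom.restrictScalars_injective k (hinj C _ _ (AlgHom.ext fun a => ?_))
      exact (r.commutes a).trans (s.commutes a).symm
    · letI : Algebra k C := ((algebraMap A C).comp (algebraMap k A)).toAlgebra
      haveI : IsScalarTower k A C := IsScalarTower.of_algebraMap_eq fun _ => rfl
      obtain ⟨f, hf⟩ := hlift C I hI (IsScalarTower.toAlgHom k A C) (f₀.restrictScalars k)
        (AlgHom.ext fun a => f₀.commutes a)
      refine ⟨{ f with commutes' := fun a => congr($hf a) }, ?_⟩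
      refine AlgHom.restrictScalars_injective k (hinj _ _ _ (AlgHom.ext fun a => ?_))
      show Ideal.Quotient.mk I (f (μ a)) = f₀ (μ a)
      rw [show f (μ a) = algebraMap A C a from congr($hf a),
        show f₀ (μ a) = algebraMap A (C ⧸ I) a from f₀.commutes a]
      rfl
  haveI : Algebra.Etale A B := { }
  haveI : Flat (Spec.map (CommRingCat.ofHom μ.toRingHom)) := by
    rw [HasRingHomProperty.Spec_iff (P := @Flat)]
    exact (inferInstance : Module.Flat A B)
  haveI : LocallyOfFinitePresentation (Spec.map (CommRingCat.ofHom μ.toRingHom)) := by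
    rw [HasRingHomProperty.Spec_iff (P := @LocallyOfFinitePresentation)]
    exact (inferInstance : Algebra.FinitePresentation A B)
  haveI : Epi (CommRingCat.ofHom μ.toRingHom) := ⟨fun {C} r s h => by
    letI : Algebra k C := (r.hom.comp (algebraMap k B)).toAlgebra
    have hrs : ∀ a, r.hom (μ a) = s.hom (μ a) := fun a => congr(($h).hom a)
    have hs : ∀ c : k, s.hom (algebraMap k B c) = algebraMap k C c := fun c => by
      show s.hom (algebraMap k B c) = r.hom (algebraMap k B c)
      rw [← μ.commutes c, hrs]
    have := hinj C ({ r.hom with commutes' := fun _ => rfl }) ({ s.hom with commutes' := hs })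
      (AlgHom.ext hrs)
    exact CommRingCat.hom_ext (RingHom.ext fun x => congr($this x))⟩
  haveI : Mono (Spec.map (CommRingCat.ofHom μ.toRingHom)) :=
    inferInstanceAs (Mono (Scheme.Spec.map (CommRingCat.ofHom μ.toRingHom).op))
  exact IsOpenImmersion.of_flat_of_mono _

end Groth.Agent.Dynamic
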