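import Groth.Agent.Dynamic.Lift
import Mathlib.RingTheory.Etale.Basic
import Mathlib.RingTheory.FinitePresentation

/-!
# The smooth case over a ring
-/

set_option autoImplicit false
set_option linter.style.haveILetI false
universe u

open LaurentPolynomial TensorProduct WithConv

namespace Groth.Agent.Dynamic

variable {k : Type u} [CommRing k] {A : Type u} [CommRing A] [HopfAlgebra k A]
  (lam : A →ₐc[k] k[T;T⁻¹]) {R : Type u} [CommRing R] [Algebra k R]

lemma sqKer_mk {I : Ideal R} (hI : I ^ 2 = ⊥) : SqKer (Ideal.Quotient.mkₐ k I) := by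
  intro u v hu hv
  have h : u * v ∈ I ^ 2 := by
    rw [pow_two]
    exact Ideal.mul_mem_mul (Ideal.Quotient.eq_zero_iff_mem.1 hu) (Ideal.Quotient.eq_zero_iff_mem.1 hv)
  rwa [hI, Submodule.mem_bot] at h

theorem formallySmooth_quot_P [Algebra.FormallySmooth k A] (J : Ideal A)
    (hJ : ∀ (R : Type u) [CommRing R] [Algebra k R] (g : Pt k A R),
      (∀ a ∈ J, g a = 0) ↔ g ∈ P lam R) : Algebra.FormallySmooth k (A ⧸ J) := by
  refine Algebra.FormallySmooth.of_comp_surjective fun T _ _ I hI f₀ => ?_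
  obtain ⟨g, hg, hgq⟩ := exists_lift_mem_P lam (sqKer_mk (k := k) hI) Ideal.Quotient.mk_surjective
    (g₀ := toConv (f₀.comp (Ideal.Quotient.mkₐ k J))) ((hJ _ _).1 fun a ha => by
      show f₀ (Ideal.Quotient.mk J a) = 0
      rw [Ideal.Quotient.eq_zero_iff_mem.2 ha, map_zero])
  exact ⟨Ideal.Quotient.liftₐ J g.ofConv ((hJ _ g).2 hg),
    Ideal.Quotient.algHom_ext k (AlgHom.ext fun a => congr($hgq a))⟩

theorem formallySmooth_quot_U [Algebra.FormallySmooth k A] (J : Ideal A)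
    (hJ : ∀ (R : Type u) [CommRing R] [Algebra k R] (g : Pt k A R),
      (∀ a ∈ J, g a = 0) ↔ g ∈ U lam R) : Algebra.FormallySmooth k (A ⧸ J) := by
  refine Algebra.FormallySmooth.of_comp_surjective fun T _ _ I hI f₀ => ?_
  obtain ⟨g, hg, hgq⟩ := exists_lift_mem_U lam (sqKer_mk (k := k) hI) Ideal.Quotient.mk_surjective
    (g₀ := toConv (f₀.comp (Ideal.Quotient.mkₐ k J))) ((hJ _ _).1 fun a ha => by
      show f₀ (Ideal.Quotient.mk J a) = 0
      rw [Ideal.Quotient.eq_zero_iff_mem.2 ha, map_zero])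
  exact ⟨Ideal.Quotient.liftₐ J g.ofConv ((hJ _ g).2 hg),
    Ideal.Quotient.algHom_ext k (AlgHom.ext fun a => congr($hgq a))⟩

section FG

variable [Algebra.FiniteType k A]

lemma mem_P_of_gen (s : Set A) (hs : Algebra.adjoin k s = ⊤) {g : Pt k A R}
    (h : ∀ a ∈ s, ∀ n : ℤ, n < 0 → g ((cA lam a).coeff n) = 0) : g ∈ P lam R := by
  rw [mem_P_iff_coeff]
  have hle : (⊤ : Subalgebra k A) ≤ (toL k R).range.comap (orb lam R g).ofConv := by
    rw [← hs, Algebra.adjoin_le_iff]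
    intro a ha
    show (orb lam R g) a ∈ (toL k R).range
    rw [mem_range_toL]
    intro n hn
    rw [coeff_orb]
    exact h a ha n hn
  intro a n hn
  rw [← coeff_orb]
  exact (mem_range_toL (k := k) _).1 (hle (Algebra.mem_top : a ∈ ⊤)) n hn

lemma exists_finset_P : ∃ F : Finset A, ∀ (R : Type u) [CommRing R] [Algebra k R] (g : Pt k A R),
    (∀ a ∈ F, g a = 0) ↔ g ∈ P lam R := by
  classical
  obtain ⟨s, hs⟩ := (‹Algebra.FiniteType k A›).out
  refine ⟨s.biUnion fun a => ((cA lam a).coeff.support.filter fun n => n < 0).image fun n => (cA lam a).coeff n,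
    fun R _ _ g => ⟨fun h => mem_P_of_gen lam s hs fun a ha n hn => ?_, fun h b hb => ?_⟩⟩
  · by_cases hn' : n ∈ (cA lam a).coeff.support
    · exact h _ (Finset.mem_biUnion.2 ⟨a, ha, Finset.mem_image.2
        ⟨n, Finset.mem_filter.2 ⟨hn', hn⟩, rfl⟩⟩)
    · rw [Finsupp.notMem_support_iff.1 hn']
      exact map_zero g.ofConv
  · obtain ⟨a, -, hb⟩ := Finset.mem_biUnion.1 hb
    obtain ⟨n, hn, rfl⟩ := Finset.mem_image.1 hb
    exact (mem_P_iff_coeff lam).1 h a n (Finset.mem_filter.1 hn).2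

lemma exists_finset_U : ∃ F : Finset A, ∀ (R : Type u) [CommRing R] [Algebra k R] (g : Pt k A R),
    (∀ a ∈ F, g a = 0) ↔ g ∈ U lam R := by
  classical
  obtain ⟨s, hs⟩ := (‹Algebra.FiniteType k A›).out
  obtain ⟨F, hF⟩ := exists_finset_P lam
  refine ⟨F ∪ s.image fun a => (cA lam a).coeff 0 - algebraMap k A (Coalgebra.counit a),
    fun R _ _ g => ⟨fun h => ?_, fun h b hb => ?_⟩⟩
  · obtain ⟨x, hx⟩ := (mem_P lam).1 ((hF R g).1 fun a ha => h a (Finset.mem_union_left _ ha))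
    refine (mem_U lam).2 ⟨x, WithConv.ofConv_injective
      (AlgHom.ext_of_adjoin_eq_top hs fun a ha => ?_), hx⟩
    show ev0 k R (x a) = (1 : Pt k A R) a
    have h2 : toL k R (x a) = (orb lam R g) a := congr($hx a)
    have h3 : g.ofConv _ = 0 := h _ (Finset.mem_union_right _ (Finset.mem_image_of_mem _ ha))
    rw [map_sub, AlgHom.commutes, sub_eq_zero] at h3
    rw [ev0_apply, ← coeff_toL_zero (k := k), h2, coeff_orb, AlgHom.convOne_apply]
    exact h3
  · rcases Finset.mem_union.1 hb with hb | hb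
    · exact (hF R g).2 (U_le_P lam h) b hb
    · obtain ⟨a, -, rfl⟩ := Finset.mem_image.1 hb
      show g.ofConv _ = 0
      rw [map_sub, AlgHom.commutes, sub_eq_zero]
      exact ((mem_U_iff_coeff lam).1 h).2 a

omit [Algebra.FiniteType k A] in
lemma fg_of_finset (J : Ideal A) (H : ∀ (R : Type u) [CommRing R] [Algebra k R], Subgroup (Pt k A R))
    (F : Finset A)
    (hJ : ∀ (R : Type u) [CommRing R] [Algebra k R] (g : Pt k A R), (∀ a ∈ J, g a = 0) ↔ g ∈ H R)
    (hF : ∀ (R : Type u) [CommRing R] [Algebra k R] (g : Pt k A R), (∀ a ∈ F, g a = 0) ↔ g ∈ H R) :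
    J.FG := by
  refine ⟨F, le_antisymm (Ideal.span_le.2 fun a ha => ?_) fun a ha => ?_⟩
  · exact Ideal.Quotient.eq_zero_iff_mem.1
      ((hF (A ⧸ J) (toConv (Ideal.Quotient.mkₐ k J))).2
        ((hJ _ _).1 fun b hb => Ideal.Quotient.eq_zero_iff_mem.2 hb) a ha)
  · exact Ideal.Quotient.eq_zero_iff_mem.1
      ((hJ (A ⧸ Ideal.span (F : Set A)) (toConv (Ideal.Quotient.mkₐ k _))).2
        ((hF _ _).1 fun b hb => Ideal.Quotient.eq_zero_iff_mem.2 (Ideal.subset_span hb)) a ha)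

end FG

variable {lamNeg : A →ₐc[k] k[T;T⁻¹]} (hneg : (lamNeg : A →ₐ[k] k[T;T⁻¹]) = Dyn.negParam k A lam)

include hneg in
lemma mem_U_neg_iff {g : Pt k A R} :
    g ∈ U lamNeg R ↔ (∀ a, ∀ n : ℤ, 0 < n → g (proj lam n a) = 0) ∧
      ∀ a, g (proj lam 0 a) = algebraMap k R (Coalgebra.counit a) := by
  rw [mem_U_iff_coeff, mem_P_iff_coeff]
  have h : ∀ a (n : ℤ), g ((cA lamNeg a).coeff n) = g (proj lam (-n) a) := fun a n => by
    rw [proj_apply, ← coeff_orb, ← coeff_orb, orb_negParam lam lamNeg hneg, push_apply]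
    exact LaurentPolynomial.invert_apply _ _
  simp only [h, neg_zero]
  refine and_congr_left fun _ => ⟨fun H a n hn => ?_, fun H a n hn => H a (-n) (by omega)⟩
  simpa using H a (-n) (by omega)

include hneg in
lemma eq_one_of_mem_both {g : Pt k A R} (hu : g ∈ U lamNeg R) (hp : g ∈ P lam R) : g = 1 := by
  refine WithConv.ofConv_injective (AlgHom.ext fun a => ?_)
  obtain ⟨h1, h2⟩ := (mem_U_neg_iff lam hneg).1 hu
  have h3 := congr($(push_ev1_orb lam g) a)
  rw [push_apply, ev1_eq_sum (k := k) _ _ (Finset.subset_insert 0 _), Finset.sum_eq_single (0 : ℤ),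
    coeff_orb] at h3
  · rw [AlgHom.convOne_apply, ← h3]
    exact h2 a
  · intro n _ hn
    rw [coeff_orb]
    rcases lt_or_gt_of_ne hn with h | h
    exacts [(mem_P_iff_coeff lam).1 hp a n h, h1 a n h]
  · exact fun h => absurd (Finset.mem_insert_self _ _) h

include hneg in
lemma decomp_unique {gu gp gu' gp' : Pt k A R} (hu : gu ∈ U lamNeg R) (hp : gp ∈ P lam R)
    (hu' : gu' ∈ U lamNeg R) (hp' : gp' ∈ P lam R) (h : gu * gp = gu' * gp') :
    gu = gu' ∧ gp = gp' := by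
  have h1 : gu'⁻¹ * gu = gp' * gp⁻¹ := by
    rw [eq_mul_inv_iff_mul_eq, mul_assoc, h, inv_mul_cancel_left]
  have h3 : gu'⁻¹ * gu = 1 :=
    eq_one_of_mem_both lam hneg (mul_mem (inv_mem hu') hu) (h1 ▸ mul_mem hp' (inv_mem hp))
  have h4 : gu = gu' := (inv_mul_eq_one.1 h3).symm
  exact ⟨h4, mul_left_cancel (h4 ▸ h : gu * gp = gu * gp')⟩

include hneg in
lemma exists_decomp_lift [Algebra.FormallySmooth k A] {T₀ : Type u} [CommRing T₀] [Algebra k T₀]
    {q : R →ₐ[k] T₀} (hq : SqKer q) (hsurj : Function.Surjective q) (g : Pt k A R)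
    {u₀ p₀ : Pt k A T₀} (hu₀ : u₀ ∈ U lamNeg T₀) (hp₀ : p₀ ∈ P lam T₀)
    (h₀ : u₀ * p₀ = push q g) :
    ∃ u p : Pt k A R, u ∈ U lamNeg R ∧ p ∈ P lam R ∧ u * p = g ∧ push q u = u₀ ∧ push q p = p₀ := by
  classical
  obtain ⟨u, hu, huq⟩ := exists_lift_mem_U lamNeg hq hsurj hu₀
  obtain ⟨p, hp, hpq⟩ := exists_lift_mem_P lam hq hsurj hp₀
  let x := u⁻¹ * g * p⁻¹
  have hx : push q x = 1 := by
    rw [map_mul, map_mul, map_inv, map_inv, huq, hpq, ← h₀, inv_mul_cancel_left, mul_inv_cancel]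
  have hX : push (mapL q) (orb lam R x) = 1 := by rw [push_orb, hx, map_one]
  let s : Set ℤ := {n | n < 0}
  let E₁ := selPt hq s (orb lam R x) hX
  let E₂ := selPt hq sᶜ (orb lam R x) hX
  have c₁ := coeff_dev_orb_selPt lam hq s (orb lam R x) hX (equiv'_orb lam s x)
  have c₂ := coeff_dev_orb_selPt lam hq sᶜ (orb lam R x) hX (equiv'_orb lam sᶜ x)
  have hE₁ : E₁ ∈ U lamNeg R := by
    rw [mem_U_neg_iff lam hneg]
    refine ⟨fun a n hn => ?_, fun a => ?_⟩
    · have := c₁ a n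
      rw [coeff_dev_orb, if_neg (show n ∉ s from fun h => by
        simp only [s, Set.mem_setOf_eq] at h; omega), dev_def, counit_proj, if_neg hn.ne', map_zero,
        sub_zero] at this
      exact this
    · have := c₁ a 0
      rw [coeff_dev_orb, if_neg (show (0 : ℤ) ∉ s from fun h => by
        simp only [s, Set.mem_setOf_eq] at h; omega), dev_def, counit_proj, if_pos rfl,
        sub_eq_zero] at this
      exact this
  have hE₂ : E₂ ∈ P lam R := by
    rw [mem_P_iff_coeff]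
    intro a n hn
    have := c₂ a n
    rw [coeff_dev_orb, if_neg (show n ∉ sᶜ from fun h => h hn), dev_def, counit_proj,
      if_neg hn.ne, map_zero, sub_zero] at this
    exact this
  have h₁ : push q E₁ = 1 := push_selPt hq _ _ _
  have h₂ : push q E₂ = 1 := push_selPt hq _ _ _
  have hx12 : E₁ * E₂ = x := by
    refine WithConv.ofConv_injective (AlgHom.ext fun a => ?_)
    have h := dev_mul (hq.orth h₁ h₂) a
    rw [dev_selPt, dev_selPt, sel_add_sel_compl (k := k), ← dev_push, push_ev1_orb, dev_def, dev_def,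
      sub_left_inj] at h
    exact h
  refine ⟨u * E₁, E₂ * p, mul_mem hu hE₁, mul_mem hE₂ hp, ?_, by rw [map_mul, h₁, huq, mul_one],
    by rw [map_mul, h₂, hpq, one_mul]⟩
  rw [← mul_assoc, mul_assoc u, hx12]
  simp [x, mul_assoc]

end Groth.Agent.Dynamic
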