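import Groth.Agent.Dynamic.CellIso
import Groth.Agent.HopfKrull.Basic
import Groth.Agent.UnipLie.Connected
import Mathlib.RingTheory.HopfAlgebra.TensorProduct

/-!
# The subgroup of points with a limit is connected in a connected group
-/

set_option autoImplicit false
set_option linter.style.haveILetI false
universe u

open LaurentPolynomial TensorProduct WithConv

namespace Groth.Agent.Dynamic

variable {k : Type u} [Field k] {A : Type u} [CommRing A] [HopfAlgebra k A]
  [Algebra.FiniteType k A]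

lemma eq_zero_of_pow_mul_idem (hA : ∀ e : A, IsIdempotentElem e → e = 0 ∨ e = 1)
    {d a : A} (hd : Coalgebra.counit (R := k) d = 1) (ha : Coalgebra.counit (R := k) a = 0)
    {m n : ℕ} (h : d ^ m * (a * a) = d ^ m * (d ^ n * a)) : a = 0 := by
  let K := AlgebraicClosure k
  have hK := UnipLie.idem_trivial_geometric (k := k) hA
  let ι' : A →ₐ[k] K ⊗[k] A := Algebra.TensorProduct.includeRight
  have hinj : Function.Injective ι' :=
    Algebra.TensorProduct.includeRight_injective (FaithfulSMul.algebraMap_injective k K)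
  have hbot := HopfKrull.iInf_pow_eq_bot (k := K) (A := K ⊗[k] A) hK
  set I := RingHom.ker (Bialgebra.counitAlgHom K (K ⊗[k] A)) with hI
  have hc : ∀ x : A, Bialgebra.counitAlgHom K (K ⊗[k] A) (ι' x) =
      algebraMap k K (Coalgebra.counit x) := fun x => by
    simp [ι', Algebra.smul_def]
  have ha1 : ι' a ∈ I := by
    show Bialgebra.counitAlgHom K (K ⊗[k] A) (ι' a) = 0
    rw [hc, ha, map_zero]
  have hd1 : ι' d ^ (m + n) - 1 ∈ I := by
    show Bialgebra.counitAlgHom K (K ⊗[k] A) (ι' d ^ (m + n) - 1) = 0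
    rw [map_sub, map_pow, hc, hd, map_one, one_pow, map_one, sub_self]
  have key : ∀ j, ι' a ∈ I ^ j := by
    intro j
    induction j with
    | zero => simp
    | succ j ih =>
      have e : ι' a = ι' d ^ m * (ι' a * ι' a) - (ι' d ^ (m + n) - 1) * ι' a := by
        rw [← map_pow, ← map_mul, ← map_mul, h, map_mul, map_mul, map_pow, map_pow, pow_add]
        ring
      have i1 : ι' d ^ m * (ι' a * ι' a) ∈ I ^ (j + 1) := by
        rw [pow_succ]
        exact Ideal.mul_mem_left _ _ (Ideal.mul_mem_mul ih ha1)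
      have i2 : (ι' d ^ (m + n) - 1) * ι' a ∈ I ^ (j + 1) := by
        rw [pow_succ']
        exact Ideal.mul_mem_mul hd1 ih
      rw [e]
      exact Submodule.sub_mem _ i1 i2
  have h0 : ι' a ∈ (⨅ j : ℕ, I ^ j) := (Submodule.mem_iInf _).2 key
  rw [hbot, Submodule.mem_bot] at h0
  exact hinj (h0.trans (map_zero ι').symm)

lemma idem_trivial_away (hA : ∀ e : A, IsIdempotentElem e → e = 0 ∨ e = 1)
    {d : A} (hd : Coalgebra.counit (R := k) d = 1) (E : Localization.Away d)
    (hE : IsIdempotentElem E) : E = 0 ∨ E = 1 := by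
  have hu : IsUnit (Bialgebra.counitAlgHom k A d) := by
    rw [Bialgebra.counitAlgHom_apply, hd]; exact isUnit_one
  let ε : Localization.Away d →+* k :=
    IsLocalization.Away.lift d (g := (Bialgebra.counitAlgHom k A).toRingHom) hu
  suffices h : ∀ x : Localization.Away d, IsIdempotentElem x → ε x = 0 → x = 0 by
    rcases IsIdempotentElem.iff_eq_zero_or_one.1 (hE.map ε) with h0 | h1
    · exact Or.inl (h E hE h0)
    · refine Or.inr (sub_eq_zero.1 (h (1 - E) hE.one_sub ?_)).symm
      rw [map_sub, map_one, h1, sub_self]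
  intro x hx hx0
  obtain ⟨n, a, ha⟩ := IsLocalization.Away.surj d x
  have hεa : Coalgebra.counit (R := k) a = 0 := by
    have := congrArg ε ha
    rw [map_mul, hx0, zero_mul, IsLocalization.Away.lift_eq] at this
    exact this.symm
  have h2 : algebraMap A (Localization.Away d) (a * a) =
      algebraMap A (Localization.Away d) (d ^ n * a) := by
    rw [map_mul, map_mul, map_pow, ← ha]
    linear_combination (algebraMap A (Localization.Away d) d ^ n *
      algebraMap A (Localization.Away d) d ^ n) * hx.eq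
  obtain ⟨⟨_, m, rfl⟩, hm⟩ := (IsLocalization.eq_iff_exists (Submonoid.powers d) _).1 h2
  have h0 := eq_zero_of_pow_mul_idem hA hd hεa hm
  rw [h0, map_zero] at ha
  exact ((IsLocalization.Away.algebraMap_isUnit d).pow n).mul_left_eq_zero.1 ha

theorem idem_trivial_limExists (hA : ∀ e : A, IsIdempotentElem e → e = 0 ∨ e = 1)
    (lam : A →ₐc[k] k[T;T⁻¹]) (Jp : Ideal A)
    (hp : ∀ (R : Type u) [CommRing R] [Algebra k R] (g : Pt k A R),
      (∀ a ∈ Jp, g a = 0) ↔ g ∈ P lam R)
    (x : A ⧸ Jp) (hx : IsIdempotentElem x) : x = 0 ∨ x = 1 := by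
  obtain ⟨lamNeg, hneg⟩ := exists_negHom lam
  obtain ⟨d, e, ⟨hd, -⟩, -⟩ := exists_cellIso lam Jp (Ju lamNeg) lamNeg hneg hp
    (fun R _ _ g => kill_Ju lamNeg g)
  haveI := isHopfIdeal_Ju lamNeg
  let r : (A ⧸ Ju lamNeg) ⊗[k] (A ⧸ Jp) →ₐ[k] A ⧸ Jp :=
    (Algebra.TensorProduct.lid k (A ⧸ Jp)).toAlgHom.comp
      (Algebra.TensorProduct.map (Bialgebra.counitAlgHom k (A ⧸ Ju lamNeg)) (AlgHom.id k _))
  have hr : r ((1 : A ⧸ Ju lamNeg) ⊗ₜ[k] x) = x := by simp [r]
  have hidem : IsIdempotentElem (e.symm ((1 : A ⧸ Ju lamNeg) ⊗ₜ[k] x)) :=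
    (show IsIdempotentElem ((1 : A ⧸ Ju lamNeg) ⊗ₜ[k] x) by
      rw [IsIdempotentElem, Algebra.TensorProduct.tmul_mul_tmul, one_mul, hx.eq]).map e.symm
  rcases idem_trivial_away hA hd _ hidem with h | h
  · left
    rw [← hr, ← e.apply_symm_apply ((1 : A ⧸ Ju lamNeg) ⊗ₜ[k] x), h, map_zero, map_zero]
  · right
    rw [← hr, ← e.apply_symm_apply ((1 : A ⧸ Ju lamNeg) ⊗ₜ[k] x), h, map_one, map_one]

end Groth.Agent.Dynamic
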