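import Groth.Agent.Dynamic.Sub

/-!
# Centraliser of a one-parameter subgroup and the Levi decomposition
-/

set_option autoImplicit false
universe u

open LaurentPolynomial TensorProduct WithConv

namespace Groth.Agent.Dynamic

variable {k : Type u} [CommRing k] {A : Type u} [CommRing A] [HopfAlgebra k A]
  (lam : A →ₐc[k] k[T;T⁻¹]) {R : Type u} [CommRing R] [Algebra k R]

variable (k R) in
/-- `T ↦ T⁻¹`. -/
noncomputable abbrev inv' : R[T;T⁻¹] →ₐ[k] R[T;T⁻¹] :=
  (LaurentPolynomial.invert (R := R)).toAlgHom.restrictScalars k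

lemma orb_negParam (lamNeg : A →ₐc[k] k[T;T⁻¹])
    (hneg : (lamNeg : A →ₐ[k] k[T;T⁻¹]) = Dyn.negParam k A lam) (g : Pt k A R) :
    orb lamNeg R g = push (inv' k R) (orb lam R g) := by
  have hL : L lamNeg R = push (inv' k R) (L lam R) := by
    apply WithConv.ofConv_injective
    rw [push_ofConv, L_ofConv, L_ofConv, hneg, Dyn.negParam, ← AlgHom.comp_assoc,
      ← AlgHom.comp_assoc]
    congr 1
    refine AlgHom.ext fun p => LaurentPolynomial.ext fun n => ?_
    simp [AddMonoidAlgebra.coeff_mapAlgHom]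
  have hC : (inv' k R).comp (Cc R) = Cc R := by
    refine AlgHom.ext fun r => ?_
    exact LaurentPolynomial.invert_C r
  simp only [orb_apply, map_mul, map_inv, hL, push_push, hC]

lemma centralizes_iff (lamNeg : A →ₐc[k] k[T;T⁻¹])
    (hneg : (lamNeg : A →ₐ[k] k[T;T⁻¹]) = Dyn.negParam k A lam) (g : Pt k A R) :
    orb lam R g = push (Cc R) g ↔ g ∈ P lam R ∧ g ∈ P lamNeg R := by
  constructor
  · intro h
    have hT : (toL k R).comp ((Polynomial.CAlgHom (R := k) (A := R))) = Cc R :=
      AlgHom.ext fun r => Polynomial.toLaurent_C r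
    refine ⟨(mem_P lam).2 ⟨push (Polynomial.CAlgHom) g, ?_⟩,
      (mem_P lamNeg).2 ⟨push (Polynomial.CAlgHom) g, ?_⟩⟩
    · rw [push_push, hT, h]
    · have hI : (inv' k R).comp (Cc R) = Cc R :=
        AlgHom.ext fun r => LaurentPolynomial.invert_C r
      rw [push_push, hT, orb_negParam lam lamNeg hneg, h, push_push, hI]
  · rintro ⟨h₁, h₂⟩
    obtain ⟨x, hx⟩ := (mem_P lam).1 h₁
    obtain ⟨y, hy⟩ := (mem_P lamNeg).1 h₂
    rw [orb_negParam lam lamNeg hneg] at hy
    apply WithConv.ofConv_injective
    refine AlgHom.ext fun a => ?_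
    show (orb lam R g) a = LaurentPolynomial.C (g a)
    have e1 : ∀ n : ℤ, n < 0 → ((orb lam R g) a).coeff n = 0 :=
      fun n hn => (mem_range_toL (k := k) _).1 ⟨x a, congr($hx a)⟩ n hn
    have e2 : ∀ n : ℤ, 0 < n → ((orb lam R g) a).coeff n = 0 := fun n hn => by
      have := (mem_range_toL (k := k) _).1 ⟨y a, congr($hy a)⟩ (-n) (by omega)
      rw [push_apply] at this
      simpa using this
    have e3 : (orb lam R g) a = LaurentPolynomial.C (((orb lam R g) a).coeff 0) := by
      refine LaurentPolynomial.ext fun n => ?_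
      rw [LaurentPolynomial.C_apply]
      split
      · subst n; rfl
      · rcases lt_or_gt_of_ne ‹n ≠ 0› with hn | hn
        exacts [e1 n hn, e2 n hn]
    have e4 : g a = ((orb lam R g) a).coeff 0 := by
      have := congr($(push_ev1_orb lam g) a)
      rw [push_apply, e3, ← LaurentPolynomial.single_eq_C, ev1_single] at this
      exact this.symm
    rw [e4]
    exact e3

/-- The substitution `T ↦ S T` on polynomials. -/
noncomputable def dblPoly (R : Type u) [CommRing R] [Algebra k R] :
    Polynomial R →ₐ[k] Polynomial R[T;T⁻¹] :=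
  (Polynomial.aeval (R := R)
    (Polynomial.C (LaurentPolynomial.T 1 : R[T;T⁻¹]) * Polynomial.X)).restrictScalars k

lemma dblPoly_monomial (m : ℕ) (r : R) :
    dblPoly (k := k) R (Polynomial.monomial m r) =
      Polynomial.monomial m (AddMonoidAlgebra.single (m : ℤ) r : R[T;T⁻¹]) := by
  show Polynomial.aeval (R := R) _ (Polynomial.monomial m r) = _
  rw [Polynomial.aeval_monomial, mul_pow, ← Polynomial.C_pow, LaurentPolynomial.T_pow,
    Polynomial.algebraMap_apply, ← mul_assoc, ← Polynomial.C_mul,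
    Polynomial.C_mul_X_pow_eq_monomial]
  congr 1
  rw [LaurentPolynomial.single_eq_C_mul_T, mul_one]
  rfl

lemma toL_comp_dblPoly :
    (toL k R[T;T⁻¹]).comp (dblPoly R) = (dbl R).comp (toL k R) := by
  refine AlgHom.ext fun q => ?_
  induction q using Polynomial.induction_on' with
  | add p q hp hq => rw [map_add, map_add, hp, hq]
  | monomial m r =>
    show Polynomial.toLaurent (dblPoly (k := k) R (Polynomial.monomial m r)) =
      dbl (k := k) R (Polynomial.toLaurent (Polynomial.monomial m r))
    rw [dblPoly_monomial, Polynomial.toLaurent_C_mul_T, Polynomial.toLaurent_C_mul_T,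
      ← LaurentPolynomial.single_eq_C_mul_T, ← LaurentPolynomial.single_eq_C_mul_T, dbl_single]

lemma ev0_comp_dblPoly : (ev0 k R[T;T⁻¹]).comp (dblPoly R) = (Cc R).comp (ev0 k R) := by
  refine AlgHom.ext fun q => ?_
  induction q using Polynomial.induction_on' with
  | add p q hp hq => rw [map_add, map_add, hp, hq]
  | monomial m r =>
    rw [AlgHom.comp_apply, AlgHom.comp_apply, dblPoly_monomial, ev0_apply, ev0_apply,
      Polynomial.coeff_monomial, Polynomial.coeff_monomial]
    split
    · subst m; rfl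
    · exact (map_zero _).symm

/-- The limit of a point commutes with `λ`. -/
lemma orb_limit {g : Pt k A R} {h : Pt k A (Polynomial R)}
    (hh : push (toL k R) h = orb lam R g) :
    orb lam R (push (ev0 k R) h) = push (Cc R) (push (ev0 k R) h) := by
  let mC : Polynomial R →ₐ[k] Polynomial R[T;T⁻¹] := Polynomial.mapAlgHom (Cc R)
  let CC : R[T;T⁻¹] →ₐ[k] Polynomial R[T;T⁻¹] := Polynomial.CAlgHom
  have t1 : (toL k R[T;T⁻¹]).comp CC = inner R :=
    AlgHom.ext fun p => Polynomial.toLaurent_C p
  have t2 : (toL k R[T;T⁻¹]).comp mC = (outer R).comp (toL k R) := by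
    refine AlgHom.ext fun q => ?_
    induction q using Polynomial.induction_on' with
    | add p q hp hq => rw [map_add, map_add, hp, hq]
    | monomial m r =>
      show Polynomial.toLaurent (Polynomial.map (Cc (k := k) R : R →+* R[T;T⁻¹])
        (Polynomial.monomial m r)) = outer (k := k) R (Polynomial.toLaurent (Polynomial.monomial m r))
      rw [Polynomial.map_monomial, Polynomial.toLaurent_C_mul_T, Polynomial.toLaurent_C_mul_T,
        ← LaurentPolynomial.single_eq_C_mul_T, ← LaurentPolynomial.single_eq_C_mul_T,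
        AddMonoidAlgebra.mapAlgHom_single]
      rfl
  have key : push CC (L lam R) * push mC h * (push CC (L lam R))⁻¹ = push (dblPoly R) h := by
    apply push_injective (toL k R[T;T⁻¹]) toL_injective
    rw [map_mul, map_mul, map_inv, push_push, push_push, push_push, t1, t2, toL_comp_dblPoly,
      ← push_push (toL k R) (outer R), ← push_push (toL k R) (dbl R), hh, push_dbl_orb]
  have t3 : (ev0 k R[T;T⁻¹]).comp CC = AlgHom.id k _ := by
    refine AlgHom.ext fun p => ?_
    show ev0 k R[T;T⁻¹] (Polynomial.C p) = p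
    rw [ev0_apply, Polynomial.coeff_C_zero]
  have t4 : (ev0 k R[T;T⁻¹]).comp mC = (Cc R).comp (ev0 k R) := by
    refine AlgHom.ext fun q => ?_
    show ev0 k R[T;T⁻¹] (Polynomial.map (Cc (k := k) R : R →+* R[T;T⁻¹]) q) = Cc (k := k) R (ev0 k R q)
    rw [ev0_apply, ev0_apply, Polynomial.coeff_map]
    rfl
  have := congrArg (push (ev0 k R[T;T⁻¹])) key
  rw [map_mul, map_mul, map_inv, push_push, push_push, push_push, t3, t4, ev0_comp_dblPoly] at this
  simp only [← push_push (ev0 k R) (Cc R)] at this
  rw [orb_apply]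
  exact this

lemma existsUnique_decomp {g : Pt k A R} (hg : g ∈ P lam R) :
    ∃! zu : Pt k A R × Pt k A R,
      orb lam R zu.1 = push (Cc R) zu.1 ∧ zu.2 ∈ U lam R ∧ zu.1 * zu.2 = g := by
  obtain ⟨h, hh⟩ := (mem_P lam).1 hg
  set z := push (ev0 k R) h with hz
  have hzc : orb lam R z = push (Cc R) z := orb_limit lam hh
  have hT : (toL k R).comp ((Polynomial.CAlgHom (R := k) (A := R))) = Cc R :=
    AlgHom.ext fun r => Polynomial.toLaurent_C r
  have hE : (ev0 k R).comp ((Polynomial.CAlgHom (R := k) (A := R))) = AlgHom.id k R :=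
    AlgHom.ext fun r => (ev0_apply (k := k) (Polynomial.C r)).trans Polynomial.coeff_C_zero
  refine ⟨(z, z⁻¹ * g), ⟨hzc, ?_, mul_inv_cancel_left z g⟩, ?_⟩
  · refine (mem_U lam).2 ⟨push Polynomial.CAlgHom z⁻¹ * h, ?_, ?_⟩
    · rw [map_mul, push_push, hE, ← hz]
      exact inv_mul_cancel z
    · rw [map_mul, push_push, hT, hh, map_mul, map_inv, map_inv, hzc]
  · rintro ⟨z', u'⟩ ⟨hz', hu', hprod⟩
    dsimp only at hz' hu' hprod
    obtain ⟨h', h0, hh'⟩ := (mem_U lam).1 hu'
    have : h = push Polynomial.CAlgHom z' * h' := by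
      apply push_injective (toL k R) toL_injective
      rw [hh, map_mul, push_push, hT, hh', ← hz', ← map_mul, hprod]
    have hzz : z = z' := by
      rw [hz, this, map_mul, push_push, hE, h0, mul_one]
      rfl
    subst hzz
    rw [← hprod, inv_mul_cancel_left]

end Groth.Agent.Dynamic
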