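import Groth.Agent.Dynamic.Unip
import Mathlib.LinearAlgebra.TensorProduct.Basis
import Mathlib.Algebra.Polynomial.Div

/-!
# The contracted subgroup over a field
-/

set_option autoImplicit false
universe u

open LaurentPolynomial TensorProduct WithConv

namespace Groth.Agent.Dynamic

variable {k : Type u} [Field k] {A : Type u} [CommRing A] [HopfAlgebra k A]
  (lam : A →ₐc[k] k[T;T⁻¹]) (J : Ideal A)
  (hJ : ∀ (R : Type u) [CommRing R] [Algebra k R] (g : Pt k A R),
    (∀ a ∈ J, g a = 0) ↔ g ∈ U lam R)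

lemma eq_zero_of_forall_dual {V B : Type u} [AddCommGroup V] [Module k V] [AddCommGroup B]
    [Module k B] (x : V ⊗[k] B)
    (h : ∀ φ : B →ₗ[k] k, TensorProduct.rid k V (φ.lTensor V x) = 0) : x = 0 := by
  classical
  let b := Module.Basis.ofVectorSpace k B
  apply (TensorProduct.equivFinsuppOfBasisRight b).injective
  rw [map_zero]
  refine Finsupp.ext fun i => ?_
  have key : ∀ y : V ⊗[k] B, TensorProduct.equivFinsuppOfBasisRight b y i =
      TensorProduct.rid k V ((b.coord i).lTensor V y) := by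
    intro y
    induction y using TensorProduct.induction_on with
    | zero => simp
    | add y z hy hz => simp only [map_add, Finsupp.add_apply, hy, hz]
    | tmul v c => simp [TensorProduct.equivFinsuppOfBasisRight_apply_tmul_apply, Module.Basis.coord_apply]
  rw [key, h]
  rfl

variable [J.IsHopfIdeal k]

lemma fixedPts_ne_bot (hJ : ∀ (R : Type u) [CommRing R] [Algebra k R] (g : Pt k A R),
      (∀ a ∈ J, g a = 0) ↔ g ∈ U lam R)
    (V : Type u) [AddCommGroup V] [Module k V] [HopfRep.Comod k (A ⧸ J) V] [Nontrivial V] :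
    HopfRep.fixedPts k (A ⧸ J) V ≠ ⊥ := by
  classical
  set ρ := HopfRep.Comod.coact (k := k) (A := A ⧸ J) (V := V) with hρ
  -- `Bd d v`: all weights of the coaction at `v` are at most `d`.
  let Bd : ℕ → V → Prop := fun d v => ∀ n : ℤ, (d : ℤ) < n → (qproj lam J hJ n).lTensor V (ρ v) = 0
  have hex : ∃ d, ∃ v, v ≠ 0 ∧ Bd d v := by
    obtain ⟨v, hv⟩ := exists_ne (0 : V)
    obtain ⟨s, hs, -⟩ := exists_bound lam J hJ (ρ v)
    refine ⟨s.sup Int.natAbs, v, hv, fun n hn => hs n fun hmem => ?_⟩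
    have := Finset.le_sup (f := Int.natAbs) hmem
    omega
  obtain ⟨v, hv, hb⟩ := Nat.find_spec hex
  have key : ∀ w : V, Bd 0 w → w ∈ HopfRep.fixedPts k (A ⧸ J) V := fun w hw =>
    coact_of_bound lam J hJ fun n hn => hw n (by simpa using hn)
  intro hbot
  have hmin : ∀ w : V, Bd 0 w → w = 0 := fun w hw => by
    have := key w hw
    rwa [hbot, Submodule.mem_bot] at this
  obtain ⟨d, hd⟩ : ∃ d, Nat.find hex = d + 1 := by
    rcases Nat.eq_zero_or_pos (Nat.find hex) with h | h
    · exact absurd (hmin v (h ▸ hb)) hv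
    · exact ⟨Nat.find hex - 1, by omega⟩
  have hlast : (qproj lam J hJ (d + 1 : ℕ)).lTensor V (ρ v) = 0 := by
    refine eq_zero_of_forall_dual _ fun φ => ?_
    rw [← LinearMap.comp_apply (LinearMap.lTensor V φ), ← LinearMap.lTensor_comp]
    refine hmin _ fun n hn => ?_
    rw [hρ, lTensor_act J]
    have hfac : ((TensorProduct.rid k (A ⧸ J)).toLinearMap.comp
        (TensorProduct.map (qproj lam J hJ n) (φ ∘ₗ qproj lam J hJ (d + 1 : ℕ)))).comp
          (Coalgebra.comul (R := k) (A := A ⧸ J)) =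
        (((TensorProduct.rid k (A ⧸ J)).toLinearMap.comp
          (TensorProduct.map (qproj lam J hJ n) (φ ∘ₗ qproj lam J hJ (d + 1 : ℕ)))).comp
          (Coalgebra.comul (R := k) (A := A ⧸ J))).comp (qproj lam J hJ (n + (d + 1 : ℕ))) := by
      refine LinearMap.ext fun b => ?_
      simp only [LinearMap.comp_apply]
      have e : TensorProduct.map (qproj lam J hJ n) (φ ∘ₗ qproj lam J hJ (d + 1 : ℕ)) =
          (TensorProduct.map LinearMap.id φ).comp
            (TensorProduct.map (qproj lam J hJ n) (qproj lam J hJ (d + 1 : ℕ))) := by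
        rw [← TensorProduct.map_comp, LinearMap.id_comp]
      rw [e, LinearMap.comp_apply, LinearMap.comp_apply, map_qproj_comul]
    rw [hfac, LinearMap.lTensor_comp, LinearMap.comp_apply, hb _ (by rw [hd]; push_cast at hn ⊢; omega),
      map_zero]
  have : Bd d v := fun n hn => by
    by_cases h : n = ((d + 1 : ℕ) : ℤ)
    · exact h ▸ hlast
    · exact hb n (by rw [hd]; push_cast at h ⊢; omega)
  exact Nat.find_min hex (by omega) ⟨v, hv, this⟩

lemma isIdempotentElem_trivial (hJ : ∀ (R : Type u) [CommRing R] [Algebra k R] (g : Pt k A R),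
      (∀ a ∈ J, g a = 0) ↔ g ∈ U lam R)
    {e : A ⧸ J} (he : IsIdempotentElem e) : e = 0 ∨ e = 1 := by
  classical
  -- reduce to an idempotent with vanishing counit
  suffices h : ∀ x : A ⧸ J, IsIdempotentElem x → Coalgebra.counit (R := k) x = 0 → x = 0 by
    rcases IsIdempotentElem.iff_eq_zero_or_one.1 (he.map (Bialgebra.counitAlgHom k (A ⧸ J))) with h0 | h1
    · exact Or.inl (h e he h0)
    · refine Or.inr (sub_eq_zero.1 (h (1 - e) he.one_sub ?_)).symm
      rw [map_sub, Bialgebra.counit_one]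
      exact sub_eq_zero.2 h1.symm
  intro x hx hx0
  obtain ⟨q, hq⟩ : cB lam J hJ x ∈ (toL k (A ⧸ J)).range :=
    (mem_range_toL _).2 fun n hn => qproj_neg lam J hJ hn x
  have hqq : IsIdempotentElem q := by
    refine toL_injective (k := k) ?_
    rw [map_mul]
    exact (congrArg₂ (· * ·) hq hq).trans ((hx.map (cB lam J hJ)).trans hq.symm)
  have hq0 : q.coeff 0 = 0 := by
    rw [← coeff_toL_zero (k := k)]
    refine Eq.trans (congrArg (fun p : (A ⧸ J)[T;T⁻¹] => p.coeff 0) hq) ?_
    exact (qproj_zero lam J hJ x).trans (by rw [hx0, map_zero])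
  have : q = 0 := by
    by_contra hne
    obtain ⟨r, hr⟩ := Polynomial.X_dvd_iff.2 hq0
    have hpow : ∀ m : ℕ, (Polynomial.X : Polynomial (A ⧸ J)) ^ (m + 1) ∣ q := fun m => by
      rw [← hqq.pow_succ_eq m, hr, mul_pow]
      exact dvd_mul_right _ _
    apply hne
    refine Polynomial.ext fun m => ?_
    exact Polynomial.X_pow_dvd_iff.1 (hpow m) m (Nat.lt_succ_self m)
  rw [qproj_zero_of_bound lam J hJ (b := x) fun n _ => ?_, hx0, map_zero]
  show (cB lam J hJ x).coeff n = 0
  rw [← hq, this]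
  simp

end Groth.Agent.Dynamic
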