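import Groth.Agent.Dynamic.Cell
import Groth.Agent.Dynamic.UnipField
import Mathlib.RingTheory.Localization.Away.Basic
import Mathlib.LinearAlgebra.FreeModule.Basic

/-!
# Multiplication onto the open cell
-/

set_option autoImplicit false
set_option linter.style.haveILetI false
universe u

open LaurentPolynomial TensorProduct WithConv

namespace Groth.Agent.Dynamic

variable {k : Type u} [Field k] {A : Type u} [CommRing A] [HopfAlgebra k A]
  (lam : A →ₐc[k] k[T;T⁻¹])

lemma exists_negHom : ∃ lamNeg : A →ₐc[k] k[T;T⁻¹],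
    (lamNeg : A →ₐ[k] k[T;T⁻¹]) = Dyn.negParam k A lam := by
  refine ⟨BialgHom.comp (AddMonoidAlgebra.mapDomainBialgHom k (-AddMonoidHom.id ℤ)) lam, ?_⟩
  refine AlgHom.ext fun a => ?_
  show AddMonoidAlgebra.mapDomainBialgHom k (-AddMonoidHom.id ℤ) (lam a) = invert (R := k) (lam a)
  generalize lam a = p
  induction p using AddMonoidAlgebra.induction_linear with
  | zero => rw [map_zero, map_zero]
  | add p q hp hq => rw [map_add, map_add, hp, hq]
  | single n r =>
    refine LaurentPolynomial.ext fun m => ?_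
    rw [AddMonoidAlgebra.mapDomainBialgHom_single,
      LaurentPolynomial.invert_apply, AddMonoidAlgebra.coeff_single, AddMonoidAlgebra.coeff_single,
      Finsupp.single_apply, Finsupp.single_apply]
    simp only [AddMonoidHom.neg_apply, AddMonoidHom.id_apply]
    split_ifs <;> first | rfl | omega

variable [Algebra.FiniteType k A] (Jp Jm : Ideal A) (lamNeg : A →ₐc[k] k[T;T⁻¹])

/-- The multiplication map of the cell. -/
noncomputable def cellMul : A →ₐ[k] (A ⧸ Jm) ⊗[k] (A ⧸ Jp) :=
  (Algebra.TensorProduct.map (Ideal.Quotient.mkₐ k Jm) (Ideal.Quotient.mkₐ k Jp)).comp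
    (Bialgebra.comulAlgHom k A)

/-- Inclusion of the first factor, as a point. -/
noncomputable def cellU : Pt k A ((A ⧸ Jm) ⊗[k] (A ⧸ Jp)) :=
  toConv (Algebra.TensorProduct.includeLeft.comp (Ideal.Quotient.mkₐ k Jm))

/-- Inclusion of the second factor, as a point. -/
noncomputable def cellP : Pt k A ((A ⧸ Jm) ⊗[k] (A ⧸ Jp)) :=
  toConv (Algebra.TensorProduct.includeRight.comp (Ideal.Quotient.mkₐ k Jp))

omit [Algebra.FiniteType k A] in
lemma cellU_mul_cellP : (cellU (k := k) Jp Jm) * (cellP (k := k) Jp Jm) = toConv ((cellMul (k := k) Jp Jm)) := by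
  refine WithConv.ofConv_injective (AlgHom.ext fun a => ?_)
  rw [AlgHom.convMul_apply]
  show _ = Algebra.TensorProduct.map (Ideal.Quotient.mkₐ k Jm) (Ideal.Quotient.mkₐ k Jp)
    (Coalgebra.comul a)
  congr 1
  ext b
  · simp [cellU, cellP]
  · simp [cellU, cellP]

/-- The multiplication is the localisation at one function. -/
theorem exists_cellIso (hneg : (lamNeg : A →ₐ[k] k[T;T⁻¹]) = Dyn.negParam k A lam)
    (hp : ∀ (R : Type u) [CommRing R] [Algebra k R] (g : Pt k A R),
      (∀ a ∈ Jp, g a = 0) ↔ g ∈ P lam R)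
    (hm : ∀ (R : Type u) [CommRing R] [Algebra k R] (g : Pt k A R),
      (∀ a ∈ Jm, g a = 0) ↔ g ∈ U lamNeg R) :
    ∃ (d : A) (e : Localization.Away d ≃ₐ[k] (A ⧸ Jm) ⊗[k] (A ⧸ Jp)),
      (Coalgebra.counit (R := k) d = 1 ∧
        ∀ (R : Type u) [CommRing R] [Algebra k R] (g : Pt k A R),
          (∀ F : WFam lam, IsUnit (g F.cellDet)) → IsUnit (g d)) ∧
        e.toAlgHom.comp (IsScalarTower.toAlgHom k A (Localization.Away d)) = (cellMul (k := k) Jp Jm) := by
  obtain ⟨d, hd1, hd, huniq, hall⟩ := exists_cell lam hneg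
  have hU : (cellU (k := k) Jp Jm) ∈ U lamNeg _ := (hm _ _).1 fun a ha => by
    show (Algebra.TensorProduct.includeLeft : A ⧸ Jm →ₐ[k] _) (Ideal.Quotient.mk Jm a) = 0
    rw [Ideal.Quotient.eq_zero_iff_mem.2 ha, map_zero]
  have hP : (cellP (k := k) Jp Jm) ∈ P lam _ := (hp _ _).1 fun a ha => by
    show (Algebra.TensorProduct.includeRight : A ⧸ Jp →ₐ[k] _) (Ideal.Quotient.mk Jp a) = 0
    rw [Ideal.Quotient.eq_zero_iff_mem.2 ha, map_zero]
  have hdu : IsUnit ((cellMul (k := k) Jp Jm) d) :=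
    (hd _ _).2 ⟨_, _, hU, hP, cellU_mul_cellP Jp Jm⟩
  let ι' := IsScalarTower.toAlgHom k A (Localization.Away d)
  obtain ⟨gu, gp, hgu, hgp, hgg⟩ := (hd _ (toConv ι')).1
    (IsLocalization.Away.algebraMap_isUnit d)
  let φ : (A ⧸ Jm) ⊗[k] (A ⧸ Jp) →ₐ[k] Localization.Away d :=
    Algebra.TensorProduct.lift (Ideal.Quotient.liftₐ Jm gu.ofConv ((hm _ gu).2 hgu))
      (Ideal.Quotient.liftₐ Jp gp.ofConv ((hp _ gp).2 hgp)) (fun _ _ => .all _ _)
  have hφU : push φ ((cellU (k := k) Jp Jm)) = gu := by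
    refine WithConv.ofConv_injective (AlgHom.ext fun a => ?_)
    show φ ((Ideal.Quotient.mk Jm a) ⊗ₜ[k] (1 : A ⧸ Jp)) = gu a
    simp only [φ, Algebra.TensorProduct.lift_tmul, map_one, mul_one]
    rfl
  have hφP : push φ ((cellP (k := k) Jp Jm)) = gp := by
    refine WithConv.ofConv_injective (AlgHom.ext fun a => ?_)
    show φ ((1 : A ⧸ Jm) ⊗ₜ[k] (Ideal.Quotient.mk Jp a)) = gp a
    simp only [φ, Algebra.TensorProduct.lift_tmul, map_one, one_mul]
    rfl
  have hφ : φ.comp ((cellMul (k := k) Jp Jm)) = ι' := by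
    have h := congrArg (push φ) (cellU_mul_cellP (k := k) Jp Jm)
    rw [map_mul, hφU, hφP, hgg] at h
    exact (congrArg WithConv.ofConv h).symm
  let ψ : Localization.Away d →ₐ[k] (A ⧸ Jm) ⊗[k] (A ⧸ Jp) :=
    { IsLocalization.Away.lift (S := Localization.Away d) d (g := ((cellMul (k := k) Jp Jm)).toRingHom) hdu with
      commutes' := fun r => by
        show IsLocalization.Away.lift d hdu (algebraMap k (Localization.Away d) r) = _
        rw [IsScalarTower.algebraMap_apply k A (Localization.Away d), IsLocalization.Away.lift_eq]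
        exact ((cellMul (k := k) Jp Jm)).commutes r }
  have hψ : ψ.comp ι' = (cellMul (k := k) Jp Jm) := AlgHom.ext fun a => IsLocalization.Away.lift_eq d hdu a
  have h1 : φ.comp ψ = AlgHom.id k _ := by
    apply AlgHom.coe_ringHom_injective
    refine IsLocalization.ringHom_ext (Submonoid.powers d) (RingHom.ext fun a => ?_)
    show φ (ψ (ι' a)) = ι' a
    rw [← AlgHom.comp_apply ψ ι', hψ, ← AlgHom.comp_apply, hφ]
  have h2 : ψ.comp φ = AlgHom.id k _ := by
    have hmul : push ψ gu * push ψ gp = (cellU (k := k) Jp Jm) * (cellP (k := k) Jp Jm) := by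
      rw [← map_mul, hgg, cellU_mul_cellP]
      exact WithConv.ofConv_injective hψ
    have hu' : push ψ gu ∈ U lamNeg _ := (hm _ _).1 fun a ha => by
      rw [push_apply, (hm _ gu).2 hgu a ha, map_zero]
    have hp' : push ψ gp ∈ P lam _ := (hp _ _).1 fun a ha => by
      rw [push_apply, (hp _ gp).2 hgp a ha, map_zero]
    obtain ⟨e1, e2⟩ := huniq _ _ _ _ _ hu' hp' hU hP hmul
    ext x
    · obtain ⟨x, rfl⟩ := Ideal.Quotient.mk_surjective x
      have := congr($e1 x)
      rw [push_apply, ← hφU] at this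
      exact this
    · obtain ⟨x, rfl⟩ := Ideal.Quotient.mk_surjective x
      have := congr($e2 x)
      rw [push_apply, ← hφP] at this
      exact this
  exact ⟨d, AlgEquiv.ofAlgHom ψ φ h2 h1, ⟨hd1, hall⟩, hψ⟩

end Groth.Agent.Dynamic
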