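import Groth.Prelude.Def_Dyn
import Mathlib.Tactic.Group
import Mathlib.RingTheory.Bialgebra.Convolution
import Mathlib.RingTheory.HopfAlgebra.Convolution
import Mathlib.RingTheory.HopfAlgebra.Quotient

/-!
# The dynamic method in the convolution group of points
-/

set_option autoImplicit false
universe u

open LaurentPolynomial TensorProduct WithConv

namespace Groth.Agent.Dynamic

variable {k : Type u} [CommRing k] {A : Type u} [CommRing A] [HopfAlgebra k A]

/-- Points with values in `C`. -/
abbrev Pt (k : Type u) [CommRing k] (A : Type u) [CommRing A] [HopfAlgebra k A]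
    (C : Type u) [CommRing C] [Algebra k C] := WithConv (A →ₐ[k] C)

variable {C D : Type u} [CommRing C] [Algebra k C] [CommRing D] [Algebra k D]

/-- Pushing a point forward. -/
noncomputable def push (f : C →ₐ[k] D) : Pt k A C →* Pt k A D where
  toFun g := toConv (f.comp g.ofConv)
  map_one' := by
    ext a
    simp
  map_mul' g h := by
    rw [AlgHom.comp_convMul_distrib]

@[simp] lemma push_ofConv (f : C →ₐ[k] D) (g : Pt k A C) :
    (push f g).ofConv = f.comp g.ofConv := rfl

@[simp] lemma push_apply (f : C →ₐ[k] D) (g : Pt k A C) (a : A) :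
    (push f g) a = f (g a) := rfl

lemma push_push {E : Type u} [CommRing E] [Algebra k E] (f : C →ₐ[k] D) (f' : D →ₐ[k] E)
    (g : Pt k A C) : push f' (push f g) = push (f'.comp f) g := rfl

lemma push_injective (f : C →ₐ[k] D) (hf : Function.Injective f) :
    Function.Injective (push (A := A) f) := by
  intro g h hgh
  apply WithConv.ofConv_injective
  ext a
  exact hf (congr($hgh a))

/-- The group structure on points. -/
noncomputable instance ptGroup : Group (Pt k A C) where
  inv g := toConv (g.ofConv.comp (HopfAlgebra.antipodeAlgHom k A))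
  inv_mul_cancel g := by
    have h := congrArg (push g.ofConv) (AlgHom.antipode_id_cancel (R := k) (A := A))
    rw [map_mul, map_one] at h
    exact h

lemma inv_ofConv (g : Pt k A C) :
    (g⁻¹).ofConv = g.ofConv.comp (HopfAlgebra.antipodeAlgHom k A) := rfl

lemma conv3_eq (f g h : A →ₐ[k] C) :
    toConv (Dyn.conv3 k A f g h) = toConv f * toConv g * toConv h := by
  simp only [Dyn.conv3, AlgHom.convMul_def]
  congr 1
  have e : Algebra.TensorProduct.map
      (((Algebra.TensorProduct.lmul' (S := C) k).comp (Algebra.TensorProduct.map f g)).comp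
        (Bialgebra.comulAlgHom k A)) h =
      (Algebra.TensorProduct.map ((Algebra.TensorProduct.lmul' (S := C) k).comp
        (Algebra.TensorProduct.map f g)) h).comp
        (Algebra.TensorProduct.map (Bialgebra.comulAlgHom k A) (AlgHom.id k A)) := by
    rw [← Algebra.TensorProduct.map_comp, AlgHom.comp_id]
  rw [← AlgHom.comp_assoc (Algebra.TensorProduct.lmul' (S := C) k) (Algebra.TensorProduct.map f g),
    e, AlgHom.comp_assoc]

variable (lam : A →ₐc[k] k[T;T⁻¹])

/-- The constants. -/
noncomputable abbrev Cc (R : Type u) [CommRing R] [Algebra k R] : R →ₐ[k] R[T;T⁻¹] :=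
  IsScalarTower.toAlgHom k R R[T;T⁻¹]

lemma Cc_apply {R : Type u} [CommRing R] [Algebra k R] (r : R) : Cc (k := k) R r = LaurentPolynomial.C r :=
  rfl

/-- Change of coefficients. -/
noncomputable abbrev mapL {R S : Type u} [CommRing R] [Algebra k R] [CommRing S] [Algebra k S]
    (f : R →ₐ[k] S) : R[T;T⁻¹] →ₐ[k] S[T;T⁻¹] := AddMonoidAlgebra.mapAlgHom ℤ f

variable (R : Type u) [CommRing R] [Algebra k R]

/-- `λ` as a point. -/
noncomputable def L : Pt k A R[T;T⁻¹] := toConv (Dyn.lamR k A lam R)

/-- The conjugated orbit, as a group homomorphism. -/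
noncomputable def orb : Pt k A R →* Pt k A R[T;T⁻¹] :=
  (MulAut.conj (L lam R)).toMonoidHom.comp (push (Cc R))

variable {R}

lemma orb_apply (g : Pt k A R) :
    orb lam R g = L lam R * push (Cc R) g * (L lam R)⁻¹ := rfl

lemma conjOrbit_eq (g : A →ₐ[k] R) :
    toConv (Dyn.conjOrbit k A lam R g) = orb lam R (toConv g) := by
  rw [Dyn.conjOrbit, conv3_eq, orb_apply]
  rfl

variable {S : Type u} [CommRing S] [Algebra k S]

lemma push_L (f : R →ₐ[k] S) : push (mapL f) (L lam R) = L lam S := by
  apply WithConv.ofConv_injective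
  refine AlgHom.ext fun a => ?_
  show (mapL f) (AddMonoidAlgebra.mapAlgHom ℤ (Algebra.ofId k R) (lam a)) =
    AddMonoidAlgebra.mapAlgHom ℤ (Algebra.ofId k S) (lam a)
  rw [← AlgHom.comp_apply, mapL, ← AddMonoidAlgebra.mapRangeAlgHom_comp]
  congr 1
  congr 1
  ext

lemma mapL_comp_Cc (f : R →ₐ[k] S) : (mapL f).comp (Cc R) = (Cc S).comp f := by
  refine AlgHom.ext fun r => ?_
  show (mapL f) (AddMonoidAlgebra.single 0 r) = AddMonoidAlgebra.single 0 (f r)
  exact AddMonoidAlgebra.mapAlgHom_single f 0 r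

lemma push_orb (f : R →ₐ[k] S) (g : Pt k A R) :
    push (mapL f) (orb lam R g) = orb lam S (push f g) := by
  simp only [orb_apply, map_mul, map_inv, push_L, push_push, mapL_comp_Cc]

/-- The universal orbit. -/
noncomputable def cA : A →ₐ[k] A[T;T⁻¹] := (orb lam A (toConv (AlgHom.id k A))).ofConv

lemma orb_eq_mapL_comp_cA (g : Pt k A R) :
    (orb lam R g).ofConv = (mapL g.ofConv).comp (cA lam) := by
  rw [show g = push g.ofConv (toConv (AlgHom.id k A)) from
    WithConv.ofConv_injective (AlgHom.comp_id _).symm, ← push_orb]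
  rfl

lemma coeff_orb (g : Pt k A R) (a : A) (n : ℤ) :
    ((orb lam R g) a).coeff n = g ((cA lam a).coeff n) := by
  show ((orb lam R g).ofConv a).coeff n = _
  rw [orb_eq_mapL_comp_cA, AlgHom.comp_apply, AddMonoidAlgebra.coeff_mapAlgHom]

/-! ### The variable `T ↦ 1`. -/

/-- Evaluation at `T = 1`. -/
noncomputable def ev1 (R : Type u) [CommRing R] [Algebra k R] : R[T;T⁻¹] →ₐ[k] R :=
  (AddMonoidAlgebra.lift R R ℤ 1).restrictScalars k

@[simp] lemma ev1_single (n : ℤ) (r : R) : ev1 (k := k) R (AddMonoidAlgebra.single n r) = r := by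
  show AddMonoidAlgebra.lift R R ℤ 1 (AddMonoidAlgebra.single n r) = r
  rw [AddMonoidAlgebra.lift_single]
  simp

lemma push_ev1_L : push (ev1 R) (L lam R) = 1 := by
  have h : (ev1 R).comp (AddMonoidAlgebra.mapAlgHom ℤ (Algebra.ofId k R)) =
      (Algebra.ofId k R).comp (Bialgebra.counitAlgHom k k[T;T⁻¹]) := by
    apply AddMonoidAlgebra.algHom_ext
    · intro n
      simp only [AlgHom.comp_apply, AddMonoidAlgebra.mapAlgHom_single, ev1_single, map_one,
        Bialgebra.counitAlgHom_apply]
      rw [show (AddMonoidAlgebra.single n (1 : k) : k[T;T⁻¹]) = T n from rfl, counit_T, map_one]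
    · ext
  apply WithConv.ofConv_injective
  ext a
  rw [push_apply, AlgHom.convOne_apply]
  have := DFunLike.congr_fun h (lam a)
  simp only [AlgHom.comp_apply, Bialgebra.counitAlgHom_apply] at this
  rw [CoalgHomClass.counit_comp_apply] at this
  exact this

lemma push_ev1_orb (g : Pt k A R) : push (ev1 R) (orb lam R g) = g := by
  rw [orb_apply, map_mul, map_mul, map_inv, push_ev1_L, one_mul, inv_one, mul_one, push_push]
  apply WithConv.ofConv_injective
  ext a
  exact ev1_single (k := k) 0 (g a)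

/-! ### Two variables. -/

/-- The substitution `T ↦ S T`. -/
noncomputable def dbl (R : Type u) [CommRing R] [Algebra k R] : R[T;T⁻¹] →ₐ[k] (R[T;T⁻¹])[T;T⁻¹] :=
  (AddMonoidAlgebra.lift R ((R[T;T⁻¹])[T;T⁻¹]) ℤ
    { toFun := fun n => LaurentPolynomial.C (LaurentPolynomial.T n.toAdd) * LaurentPolynomial.T n.toAdd
      map_one' := by simp
      map_mul' := fun m n => by
        simp only [toAdd_mul, LaurentPolynomial.T_add, map_mul]
        ring }).restrictScalars k

lemma dbl_single (n : ℤ) (r : R) :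
    dbl (k := k) R (AddMonoidAlgebra.single n r) =
      AddMonoidAlgebra.single n (AddMonoidAlgebra.single n r) := by
  show AddMonoidAlgebra.lift R ((R[T;T⁻¹])[T;T⁻¹]) ℤ _ (AddMonoidAlgebra.single n r) = _
  rw [AddMonoidAlgebra.lift_single]
  simp only [MonoidHom.coe_mk, OneHom.coe_mk, toAdd_ofAdd]
  rw [← LaurentPolynomial.single_eq_C_mul_T, AddMonoidAlgebra.smul_single,
    LaurentPolynomial.smul_eq_C_mul, ← LaurentPolynomial.single_eq_C_mul_T]

/-- The inner variable. -/
noncomputable abbrev inner (R : Type u) [CommRing R] [Algebra k R] :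
    R[T;T⁻¹] →ₐ[k] (R[T;T⁻¹])[T;T⁻¹] := Cc R[T;T⁻¹]

/-- The outer variable. -/
noncomputable abbrev outer (R : Type u) [CommRing R] [Algebra k R] :
    R[T;T⁻¹] →ₐ[k] (R[T;T⁻¹])[T;T⁻¹] := mapL (Cc R)

lemma push_dbl_L :
    push (dbl R) (L lam R) = push (inner R) (L lam R) * push (outer R) (L lam R) := by
  set φ : k[T;T⁻¹] →ₐ[k] R[T;T⁻¹] := AddMonoidAlgebra.mapAlgHom ℤ (Algebra.ofId k R) with hφ
  have key : ((dbl R).comp φ) =
      (toConv ((inner R).comp φ) * toConv ((outer R).comp φ)).ofConv := by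
    apply AddMonoidAlgebra.algHom_ext
    · intro n
      rw [AlgHom.convMul_apply]
      rw [show (AddMonoidAlgebra.single n (1 : k) : k[T;T⁻¹]) = T n from rfl, comul_T]
      simp only [AlgHom.comp_apply, Algebra.TensorProduct.lift_tmul]
      simp only [hφ, LaurentPolynomial.T, AddMonoidAlgebra.mapAlgHom_single, map_one, dbl_single]
      show _ = (AddMonoidAlgebra.single 0 (AddMonoidAlgebra.single n (1 : R)) : (R[T;T⁻¹])[T;T⁻¹]) *
        AddMonoidAlgebra.single n (Cc (k := k) R 1)
      rw [map_one, AddMonoidAlgebra.single_mul_single, zero_add, mul_one]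
    · ext
  calc push (dbl R) (L lam R) = toConv (((dbl R).comp φ).comp (lam : A →ₐ[k] k[T;T⁻¹])) := rfl
    _ = toConv (((inner R).comp φ).comp (lam : A →ₐ[k] k[T;T⁻¹])) *
        toConv (((outer R).comp φ).comp (lam : A →ₐ[k] k[T;T⁻¹])) := by
      rw [key, AlgHom.convMul_comp_bialgHom_distrib]
    _ = _ := rfl

lemma dbl_comp_Cc : (dbl R).comp (Cc (k := k) R) = (inner R).comp (Cc R) := by
  refine AlgHom.ext fun r => ?_
  exact dbl_single (k := k) 0 r

lemma outer_comp_Cc : (outer (k := k) R).comp (Cc R) = (inner R).comp (Cc R) := by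
  rw [mapL_comp_Cc]

lemma convComp_comm {E : Type u} [CommRing E] [Algebra k E] (f g : k[T;T⁻¹] →ₐ[k] E) :
    toConv (f.comp (lam : A →ₐ[k] k[T;T⁻¹])) * toConv (g.comp (lam : A →ₐ[k] k[T;T⁻¹])) =
      toConv (g.comp (lam : A →ₐ[k] k[T;T⁻¹])) * toConv (f.comp (lam : A →ₐ[k] k[T;T⁻¹])) := by
  have h1 := AlgHom.convMul_comp_bialgHom_distrib (toConv f) (toConv g) lam
  have h2 := AlgHom.convMul_comp_bialgHom_distrib (toConv g) (toConv f) lam
  rw [mul_comm (toConv f) (toConv g)] at h1
  exact WithConv.ofConv_injective (h1.symm.trans h2)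

lemma L_ofConv : (L lam R).ofConv =
    (AddMonoidAlgebra.mapAlgHom ℤ (Algebra.ofId k R)).comp (lam : A →ₐ[k] k[T;T⁻¹]) := rfl

/-- `dbl` is symmetric in the two conjugations. -/
lemma push_dbl_L' :
    push (dbl R) (L lam R) = push (outer R) (L lam R) * push (inner R) (L lam R) := by
  have h : ∀ e : R[T;T⁻¹] →ₐ[k] (R[T;T⁻¹])[T;T⁻¹], push e (L lam R) =
      toConv ((e.comp (AddMonoidAlgebra.mapAlgHom ℤ (Algebra.ofId k R))).comp
        (lam : A →ₐ[k] k[T;T⁻¹])) := by
    intro e
    apply WithConv.ofConv_injective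
    rw [push_ofConv, L_ofConv, AlgHom.comp_assoc]
  rw [push_dbl_L, h, h]
  exact convComp_comm lam _ _

lemma orb_orb (g : Pt k A R) :
    orb lam R[T;T⁻¹] (orb lam R g) = push (dbl R) (orb lam R g) := by
  rw [orb_apply, orb_apply, map_mul, map_mul, map_inv, map_mul, map_mul, map_inv, push_dbl_L',
    push_push, push_push, dbl_comp_Cc, ← push_L lam (Cc R)]
  group

lemma push_dbl_orb (g : Pt k A R) :
    push (dbl R) (orb lam R g) = push (inner R) (L lam R) * push (outer R) (orb lam R g) *
      (push (inner R) (L lam R))⁻¹ := by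
  rw [orb_apply, map_mul, map_mul, map_inv, map_mul, map_mul, map_inv, push_dbl_L,
    push_push, push_push, dbl_comp_Cc, outer_comp_Cc]
  group

end Groth.Agent.Dynamic
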