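import Groth.Agent.Dynamic.Tri
import Groth.Agent.Dynamic.Basic
import Groth.Agent.Dynamic.Sub
import Mathlib.RingTheory.MvPolynomial.Homogeneous
import Mathlib.Data.Finsupp.Weight

/-!
# The matrices of translations on monomials in matrix entries
-/

set_option autoImplicit false
universe u

open LaurentPolynomial MvPolynomial

namespace Groth.Agent.Dynamic

variable {ι : Type u} [Fintype ι]

/-- Exponents of bounded degree. -/
abbrev Mon (ι : Type u) (N : ℕ) : Type u := {α : (ι × ι) →₀ ℕ // α.degree ≤ N}

noncomputable instance (N : ℕ) : Fintype (Mon ι N) :=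
  (Finsupp.finite_of_degree_le (σ := ι × ι) N).fintype

/-- The weight of a monomial. -/
noncomputable def monWt (w : ι → ℤ) (α : (ι × ι) →₀ ℕ) : ℤ := α.sum fun p e => e * w p.2

lemma monWt_neg (w : ι → ℤ) (α : (ι × ι) →₀ ℕ) : monWt (fun i => -w i) α = -monWt w α := by
  simp [monWt, Finsupp.sum, Finset.sum_neg_distrib]

variable {R S : Type u} [CommRing R] [CommRing S]

/-- Translation by a matrix. -/
noncomputable def sig (M : Matrix ι ι R) : MvPolynomial (ι × ι) R →ₐ[R] MvPolynomial (ι × ι) R :=
  MvPolynomial.aeval fun p => ∑ l, MvPolynomial.C (M l p.2) * MvPolynomial.X (p.1, l)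

lemma sig_mul (M M' : Matrix ι ι R) : sig (M * M') = (sig M).comp (sig M') := by
  refine MvPolynomial.algHom_ext fun p => ?_
  simp only [sig, AlgHom.comp_apply, MvPolynomial.aeval_X, map_sum, map_mul, MvPolynomial.aeval_C,
    MvPolynomial.algebraMap_eq, Matrix.mul_apply, Finset.sum_mul, Finset.mul_sum]
  rw [Finset.sum_comm]
  exact Finset.sum_congr rfl fun r _ => Finset.sum_congr rfl fun l _ => by ring

lemma sig_one [DecidableEq ι] : sig (1 : Matrix ι ι R) = AlgHom.id R _ := by
  refine MvPolynomial.algHom_ext fun p => ?_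
  simp only [sig, MvPolynomial.aeval_X, AlgHom.id_apply, Matrix.one_apply, apply_ite MvPolynomial.C,
    map_one, map_zero, ite_mul, one_mul, zero_mul, Finset.sum_ite_eq', Finset.mem_univ, if_true]

lemma map_sig (f : R →+* S) (M : Matrix ι ι R) (p : MvPolynomial (ι × ι) R) :
    MvPolynomial.map f (sig M p) = sig (M.map f) (MvPolynomial.map f p) := by
  induction p using MvPolynomial.induction_on with
  | C r => simp [sig]
  | add p q hp hq => simp only [map_add, hp, hq]
  | mul_X p i hp =>
    rw [map_mul, map_mul, hp, map_mul, map_mul, MvPolynomial.map_X]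
    congr 1
    simp only [sig, MvPolynomial.aeval_X, map_sum, map_mul, MvPolynomial.map_C, MvPolynomial.map_X,
      Matrix.map_apply]

lemma aeval_sig {B : Type u} [CommRing B] [Algebra R B] (X : Matrix ι ι B) (M : Matrix ι ι R)
    (p : MvPolynomial (ι × ι) R) :
    MvPolynomial.aeval (fun q : ι × ι => X q.1 q.2) (sig M p) =
      MvPolynomial.aeval (fun q : ι × ι => (X * M.map (algebraMap R B)) q.1 q.2) p := by
  induction p using MvPolynomial.induction_on with
  | C r => simp [sig]
  | add p q hp hq => simp only [map_add, hp, hq]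
  | mul_X p i hp =>
    rw [map_mul, map_mul, map_mul, hp]
    congr 1
    simp only [sig, MvPolynomial.aeval_X, map_sum, map_mul, MvPolynomial.aeval_C, Matrix.mul_apply,
      Matrix.map_apply]
    exact Finset.sum_congr rfl fun l _ => mul_comm _ _

lemma isHomogeneous_sig (M : Matrix ι ι R) (α : (ι × ι) →₀ ℕ) :
    (sig M (monomial α 1)).IsHomogeneous α.degree := by
  have h := MvPolynomial.IsHomogeneous.aeval (S := R) (n := 1)
    (MvPolynomial.isHomogeneous_monomial (R := R) 1 (d := α) rfl)
    (fun p : ι × ι => ∑ l, MvPolynomial.C (M l p.2) * MvPolynomial.X (p.1, l))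
    (fun p => MvPolynomial.IsHomogeneous.sum _ _ _ fun l _ =>
      (MvPolynomial.isHomogeneous_X R _).C_mul _)
  rwa [one_mul] at h

variable (N : ℕ)

/-- The matrix of a translation on monomials of bounded degree. -/
noncomputable def Cmat (M : Matrix ι ι R) : Matrix (Mon ι N) (Mon ι N) R :=
  Matrix.of fun β α => (sig M (monomial α.1 1)).coeff β.1

lemma sig_monomial (M : Matrix ι ι R) (α : Mon ι N) :
    sig M (monomial α.1 1) = ∑ β : Mon ι N, monomial β.1 (Cmat N M β α) := by
  classical
  refine MvPolynomial.ext _ _ fun γ => ?_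
  rw [MvPolynomial.coeff_sum]
  simp only [MvPolynomial.coeff_monomial]
  by_cases hγ : γ.degree ≤ N
  · rw [Finset.sum_eq_single (⟨γ, hγ⟩ : Mon ι N)]
    · rw [if_pos rfl]; rfl
    · intro β _ hβ
      rw [if_neg fun h => hβ (Subtype.ext h)]
    · exact fun h => absurd (Finset.mem_univ _) h
  · rw [Finset.sum_eq_zero fun β _ => if_neg fun h : β.1 = γ => hγ (h ▸ β.2)]
    exact (isHomogeneous_sig M α.1).coeff_eq_zero fun h => hγ (h ▸ α.2)

lemma Cmat_mul (M M' : Matrix ι ι R) : Cmat N (M * M') = Cmat N M * Cmat N M' := by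
  ext β α
  show (sig (M * M') (monomial α.1 1)).coeff β.1 = _
  rw [sig_mul, AlgHom.comp_apply, sig_monomial N M' α, map_sum, MvPolynomial.coeff_sum,
    Matrix.mul_apply]
  refine Finset.sum_congr rfl fun γ _ => ?_
  rw [show monomial γ.1 (Cmat N M' γ α) =
      MvPolynomial.C (Cmat N M' γ α) * monomial γ.1 1 by rw [MvPolynomial.C_mul_monomial, mul_one],
    map_mul, ← MvPolynomial.algebraMap_eq, AlgHom.commutes, MvPolynomial.algebraMap_eq,
    MvPolynomial.coeff_C_mul, mul_comm]
  rfl

lemma Cmat_one [DecidableEq ι] : Cmat N (1 : Matrix ι ι R) = 1 := by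
  classical
  ext β α
  show (sig (1 : Matrix ι ι R) (monomial α.1 1)).coeff β.1 = _
  rw [sig_one, AlgHom.id_apply, MvPolynomial.coeff_monomial, Matrix.one_apply]
  simp only [Subtype.ext_iff, eq_comm]

lemma Cmat_map (f : R →+* S) (M : Matrix ι ι R) : Cmat N (M.map f) = (Cmat N M).map f := by
  ext β α
  show (sig (M.map f) (monomial α.1 1)).coeff β.1 = f ((sig M (monomial α.1 1)).coeff β.1)
  rw [← MvPolynomial.coeff_map, map_sig, MvPolynomial.map_monomial, map_one f]

lemma aeval_mul_monomial {B : Type u} [CommRing B] (X M : Matrix ι ι B) (α : Mon ι N) :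
    MvPolynomial.eval (fun q : ι × ι => (X * M) q.1 q.2) (monomial α.1 1) =
      ∑ β : Mon ι N, MvPolynomial.eval (fun q : ι × ι => X q.1 q.2) (monomial β.1 1) *
        Cmat N M β α := by
  have h := aeval_sig (R := B) X M (monomial α.1 1)
  rw [Algebra.algebraMap_self, show M.map (RingHom.id B) = M from Matrix.map_id M,
    sig_monomial N M α, map_sum] at h
  simp only [← MvPolynomial.aeval_eq_eval]
  rw [← h]
  refine Finset.sum_congr rfl fun β _ => ?_
  rw [MvPolynomial.aeval_monomial, MvPolynomial.aeval_monomial, map_one, one_mul, mul_comm]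
  rfl

variable [DecidableEq ι]

lemma Cmat_diag (w : ι → ℤ) :
    Cmat N (Matrix.diagonal fun i => (AddMonoidAlgebra.single (w i) (1 : R) : R[T;T⁻¹])) =
      Matrix.diagonal fun α : Mon ι N => AddMonoidAlgebra.single (monWt w α.1) (1 : R) := by
  classical
  have h : ∀ α : (ι × ι) →₀ ℕ,
      sig (Matrix.diagonal fun i => (AddMonoidAlgebra.single (w i) (1 : R) : R[T;T⁻¹]))
        (monomial α 1) = monomial α (AddMonoidAlgebra.single (monWt w α) (1 : R)) := by
    intro α
    rw [sig, MvPolynomial.aeval_monomial]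
    simp only [map_one, one_mul]
    induction α using Finsupp.induction with
    | zero =>
      simp only [Finsupp.prod_zero_index, monWt, Finsupp.sum_zero_index]
      rw [show (AddMonoidAlgebra.single 0 (1 : R) : R[T;T⁻¹]) = 1 from rfl,
        MvPolynomial.monomial_zero', map_one]
    | single_add a b f ha hb ih =>
      rw [Finsupp.prod_add_index' (by simp) (fun _ _ _ => pow_add _ _ _), ih,
        Finsupp.prod_single_index (by simp)]
      have : (∑ l, MvPolynomial.C ((Matrix.diagonal fun i =>
          (AddMonoidAlgebra.single (w i) (1 : R) : R[T;T⁻¹])) l a.2) * MvPolynomial.X (a.1, l)) =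
          monomial (Finsupp.single a 1) (AddMonoidAlgebra.single (w a.2) (1 : R)) := by
        rw [Finset.sum_eq_single a.2 (fun l _ hl => by rw [Matrix.diagonal_apply_ne _ hl, map_zero,
          zero_mul]) (fun h => absurd (Finset.mem_univ _) h), Matrix.diagonal_apply_eq,
          MvPolynomial.C_mul_X_eq_monomial]
      rw [this, MvPolynomial.monomial_pow, MvPolynomial.monomial_mul, AddMonoidAlgebra.single_pow,
        one_pow, AddMonoidAlgebra.single_mul_single, one_mul, Finsupp.smul_single,
        smul_eq_mul, mul_one]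
      congr 2
      rw [monWt, monWt, Finsupp.sum_add_index' (by simp) (fun _ _ _ => by push_cast; ring),
        Finsupp.sum_single_index (by simp), nsmul_eq_mul]
  refine Matrix.ext fun β α => ?_
  show (sig (Matrix.diagonal fun i => (AddMonoidAlgebra.single (w i) (1 : R) : R[T;T⁻¹]))
    (monomial α.1 (1 : R[T;T⁻¹]))).coeff β.1 = _
  rw [h, MvPolynomial.coeff_monomial, Matrix.diagonal_apply]
  by_cases hab : α = β
  · subst hab; simp
  · rw [if_neg fun h => hab (Subtype.ext h), if_neg (Ne.symm hab)]

/-- `Cmat` respects the filtration by weights. -/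
lemma Cmat_filtered (w : ι → ℤ) {M : Matrix ι ι R} (hM : Up w M) :
    Up (fun α : Mon ι N => monWt w α.1) (Cmat N M) ∧
      (dg w w M = 1 →
        dg (fun α : Mon ι N => monWt w α.1) (fun α : Mon ι N => monWt w α.1) (Cmat N M) = 1) := by
  let H : Matrix ι ι (Polynomial R) := Matrix.of fun i j =>
    if w j ≤ w i then Polynomial.monomial (w i - w j).toNat (M i j) else 0
  let D : Matrix ι ι R[T;T⁻¹] := Matrix.diagonal fun i => AddMonoidAlgebra.single (w i) (1 : R)
  have hH : H.map Polynomial.toLaurent * D = D * M.map LaurentPolynomial.C := by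
    ext1 i j
    rw [Matrix.mul_diagonal, Matrix.diagonal_mul, Matrix.map_apply, Matrix.map_apply]
    change Polynomial.toLaurent (H i j) * _ = _ * AddMonoidAlgebra.single 0 (M i j)
    rw [AddMonoidAlgebra.single_mul_single, one_mul, add_zero]
    simp only [H, Matrix.of_apply]
    split_ifs with hij
    · rw [Polynomial.toLaurent_C_mul_T, ← LaurentPolynomial.single_eq_C_mul_T,
        AddMonoidAlgebra.single_mul_single, mul_one]
      congr 1
      omega
    · rw [map_zero, zero_mul, hM i j (by dsimp only; omega), AddMonoidAlgebra.single_zero]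
  have hC := congrArg (Cmat N) hH
  rw [Cmat_mul, Cmat_mul, Cmat_map, Cmat_diag, Cmat_map] at hC
  have key : ∀ β α : Mon ι N, Polynomial.toLaurent (Cmat N H β α) =
      AddMonoidAlgebra.single (monWt w β.1 - monWt w α.1) (Cmat N M β α) := by
    intro β α
    have h := congr_fun (congr_fun hC β) α
    rw [Matrix.mul_diagonal, Matrix.diagonal_mul, Matrix.map_apply, Matrix.map_apply] at h
    change _ = _ * AddMonoidAlgebra.single 0 (Cmat N M β α) at h
    rw [AddMonoidAlgebra.single_mul_single, one_mul, add_zero] at h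
    have h2 := congr($h * AddMonoidAlgebra.single (-monWt w α.1) (1 : R))
    rwa [mul_assoc, AddMonoidAlgebra.single_mul_single, add_neg_cancel, one_mul,
      AddMonoidAlgebra.single_mul_single, mul_one, ← sub_eq_add_neg,
      show (AddMonoidAlgebra.single 0 (1 : R) : R[T;T⁻¹]) = 1 from rfl, mul_one] at h2
  refine ⟨fun β α hlt => ?_, fun hd => ?_⟩
  · have h2 := (mem_range_toL (k := R) _).1 ⟨Cmat N H β α, key β α⟩
      (monWt w β.1 - monWt w α.1) (by dsimp only at hlt; omega)
    rwa [AddMonoidAlgebra.coeff_single, Finsupp.single_eq_same] at h2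
  · have h0 : H.map (Polynomial.constantCoeff (R := R)) = 1 := by
      rw [← hd]
      ext i j
      rw [dg_apply, Matrix.map_apply, Polynomial.constantCoeff_apply]
      simp only [H, Matrix.of_apply]
      split_ifs with h1 h2 h2
      · rw [Polynomial.coeff_monomial, if_pos (by omega)]
      · rw [Polynomial.coeff_monomial, if_neg (by omega)]
      · omega
      · rfl
    have h1 := congrArg (Cmat N) h0
    rw [Cmat_map, Cmat_one] at h1
    ext β α
    rw [← h1, Matrix.map_apply, Polynomial.constantCoeff_apply, dg_apply,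
      ← coeff_toL_zero (k := R), show toL R R (Cmat N H β α) = _ from key β α,
      AddMonoidAlgebra.coeff_single, Finsupp.single_apply]
    split_ifs <;> first | rfl | omega

lemma Cmat_up (w : ι → ℤ) {M : Matrix ι ι R} (hM : Up w M) :
    Up (fun α : Mon ι N => monWt w α.1) (Cmat N M) := (Cmat_filtered N w hM).1

lemma Cmat_lowU (w : ι → ℤ) {M : Matrix ι ι R} (hM : LowU w M) :
    LowU (fun α : Mon ι N => monWt w α.1) (Cmat N M) := by
  have hup : Up (fun i => -w i) M := by
    intro i j hij
    exact hM.tri i j (by simpa using hij)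
  have hd : dg (fun i => -w i) (fun i => -w i) M = 1 := by
    rw [← hM.diag]
    ext i j
    simp [dg_apply]
  obtain ⟨h1, h2⟩ := Cmat_filtered N (fun i => -w i) hup
  refine ⟨fun β α h => h1 β α (by simp only [monWt_neg, neg_neg]; exact h), ?_⟩
  rw [← h2 hd]
  ext β α
  simp [dg_apply, monWt_neg]

end Groth.Agent.Dynamic
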