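import Groth.Agent.Dynamic.Weight
import Groth.Agent.Dynamic.Mon
import Mathlib.RingTheory.Polynomial.Basic

/-!
# The open cell
-/

set_option autoImplicit false
set_option linter.style.haveILetI false
universe u

open LaurentPolynomial TensorProduct WithConv MvPolynomial

namespace Groth.Agent.Dynamic

variable {k : Type u} [Field k] {A : Type u} [CommRing A] [HopfAlgebra k A]
  {lam lamNeg : A →ₐc[k] k[T;T⁻¹]}

namespace WFam

variable (F : WFam lam) (N : ℕ)

/-- The evaluation at the matrix entries. -/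
noncomputable def evalA : MvPolynomial (F.ι × F.ι) k →ₐ[k] A :=
  MvPolynomial.aeval fun p => F.a p.1 p.2

/-- The monomials in the entries. -/
noncomputable def q (α : Mon F.ι N) : A := F.evalA (monomial α.1 1)

lemma q_eq (α : Mon F.ι N) :
    F.q N α = MvPolynomial.eval (fun p : F.ι × F.ι => F.a p.1 p.2) (monomial α.1 1) := by
  rw [q, evalA, MvPolynomial.aeval_monomial, MvPolynomial.eval_monomial, map_one]

lemma point_q {R : Type u} [CommRing R] [Algebra k R] (g : Pt k A R) (α : Mon F.ι N) :
    g (F.q N α) = MvPolynomial.eval (fun p : F.ι × F.ι => F.ev g p.1 p.2) (monomial α.1 1) := by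
  rw [F.q_eq, MvPolynomial.eval_monomial, MvPolynomial.eval_monomial, one_mul, one_mul]
  show g.ofConv _ = _
  rw [map_finsuppProd]
  simp only [map_pow]
  rfl

lemma comul_q (α : Mon F.ι N) :
    Coalgebra.comul (R := k) (F.q N α) =
      ∑ β : Mon F.ι N, F.q N β ⊗ₜ[k] Cmat N F.a β α := by
  have h : F.ev (toConv (Bialgebra.comulAlgHom k A)) =
      F.a.map (Algebra.TensorProduct.includeLeft : A →ₐ[k] A ⊗[k] A) *
        F.a.map (Algebra.TensorProduct.includeRight : A →ₐ[k] A ⊗[k] A) := by
    ext i j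
    rw [ev_apply, Matrix.mul_apply]
    show Coalgebra.comul (R := k) (F.a i j) = _
    rw [F.comul_a]
    simp
  have h2 := F.point_q N (toConv (Bialgebra.comulAlgHom k A)) α
  rw [h, aeval_mul_monomial] at h2
  refine h2.trans (Finset.sum_congr rfl fun β _ => ?_)
  rw [show Cmat N (F.a.map ⇑(Algebra.TensorProduct.includeRight : A →ₐ[k] A ⊗[k] A)) =
      (Cmat N F.a).map ⇑(Algebra.TensorProduct.includeRight : A →ₐ[k] A ⊗[k] A) from
      Cmat_map N (Algebra.TensorProduct.includeRight : A →ₐ[k] A ⊗[k] A).toRingHom F.a]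
  have h3 : MvPolynomial.eval (fun p : F.ι × F.ι => (F.a.map
      (Algebra.TensorProduct.includeLeft : A →ₐ[k] A ⊗[k] A)) p.1 p.2) (monomial β.1 1) =
      (Algebra.TensorProduct.includeLeft : A →ₐ[k] A ⊗[k] A) (F.q N β) := by
    rw [F.q_eq, MvPolynomial.eval_monomial, MvPolynomial.eval_monomial, one_mul, one_mul]
    simp only [Matrix.map_apply, ← map_pow, ← map_finsuppProd]
  rw [h3]
  simp only [Matrix.map_apply, Algebra.TensorProduct.includeLeft_apply,
    Algebra.TensorProduct.includeRight_apply, Algebra.TensorProduct.tmul_mul_tmul, one_mul, mul_one]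

lemma rA_q (α : Mon F.ι N) :
    rA lam (F.q N α) = AddMonoidAlgebra.single (monWt F.w α.1) (F.q N α) := by
  classical
  have h : F.ev (toConv (rA lam)) = F.a.map (Cc (k := k) A) *
      Matrix.diagonal fun i => (AddMonoidAlgebra.single (F.w i) (1 : A) : A[T;T⁻¹]) := by
    refine Matrix.ext fun i j => ?_
    rw [ev_apply, Matrix.mul_diagonal, Matrix.map_apply]
    show rA lam (F.a i j) = AddMonoidAlgebra.single 0 (F.a i j) * AddMonoidAlgebra.single (F.w j) 1
    rw [F.rA_a, AddMonoidAlgebra.single_mul_single, zero_add, mul_one]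
  have h2 := F.point_q N (toConv (rA lam)) α
  rw [h, aeval_mul_monomial, Cmat_diag] at h2
  refine h2.trans ?_
  rw [Finset.sum_eq_single α (fun β _ hβ => by rw [Matrix.diagonal_apply_ne _ hβ, mul_zero])
    (fun hh => absurd (Finset.mem_univ _) hh), Matrix.diagonal_apply_eq]
  have h3 : MvPolynomial.eval (fun p : F.ι × F.ι => (F.a.map (Cc (k := k) A)) p.1 p.2)
      (monomial α.1 1) = AddMonoidAlgebra.single 0 (F.q N α) := by
    rw [F.q_eq, MvPolynomial.eval_monomial, MvPolynomial.eval_monomial, one_mul, one_mul]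
    show _ = Cc (k := k) A _
    simp only [Matrix.map_apply, ← map_pow, ← map_finsuppProd]
    rfl
  rw [h3, AddMonoidAlgebra.single_mul_single, zero_add, mul_one]

lemma exists_monFam : ∃ (F' : WFam lam) (Q : Matrix F'.ι (Mon F.ι N) k),
    (∀ α, F.q N α = ∑ s, Q s α • F'.m s) ∧
    dg F'.w (fun α : Mon F.ι N => monWt F.w α.1) Q = Q ∧
    F'.a * Q.map (algebraMap k A) = Q.map (algebraMap k A) * Cmat N F.a := by
  classical
  let W : Submodule k A := Submodule.span k (Set.range (F.q N))
  haveI : Module.Finite k W := Module.Finite.span_of_finite k (Set.finite_range _)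
  have hW : ∀ x ∈ W, Coalgebra.comul (R := k) x ∈ LinearMap.range (W.subtype.rTensor A) := by
    intro x hx
    refine (Submodule.span_le (p := (LinearMap.range (W.subtype.rTensor A)).comap
      (Coalgebra.comul (R := k) (A := A)))).2 ?_ hx
    rintro _ ⟨α, rfl⟩
    show Coalgebra.comul (R := k) (F.q N α) ∈ LinearMap.range (W.subtype.rTensor A)
    rw [F.comul_q]
    exact Submodule.sum_mem _ fun β _ =>
      ⟨(⟨F.q N β, Submodule.subset_span ⟨β, rfl⟩⟩ : W) ⊗ₜ[k] Cmat N F.a β α, rfl⟩
  obtain ⟨F', hF'⟩ := exists_wfam (lam := lam) W hW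
  have hQ : ∀ α, ∃ c : F'.ι → k, ∑ s, c s • F'.m s = F.q N α := fun α =>
    (Submodule.mem_span_range_iff_exists_fun k).1 (hF'.symm ▸ Submodule.subset_span ⟨α, rfl⟩)
  choose c hc using hQ
  let Q : Matrix F'.ι (Mon F.ι N) k := Matrix.of fun s α => c α s
  refine ⟨F', Q, fun α => (hc α).symm, ?_, ?_⟩
  · ext s α
    rw [dg_apply]
    split_ifs with hw
    · rfl
    · have h := congr((rA lam $(hc α)).coeff (F'.w s))
      rw [F.rA_q, map_sum, AddMonoidAlgebra.coeff_single, Finsupp.single_eq_of_ne hw,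
        AddMonoidAlgebra.coeff_sum, Finset.sum_apply'] at h
      simp only [map_smul, F'.rA_m, AddMonoidAlgebra.coeff_smul, Finsupp.smul_apply,
        AddMonoidAlgebra.coeff_single] at h
      have h2 := congr(F'.coord s $h)
      simp only [map_sum, map_smul, Finsupp.single_apply, apply_ite (F'.coord s), map_zero,
        F'.coord_m, smul_eq_mul] at h2
      rw [Finset.sum_eq_single s (fun t _ ht => by simp [ht]) (fun hh => absurd (Finset.mem_univ _) hh),
        if_pos rfl, if_pos rfl, mul_one] at h2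
      exact h2.symm
  · refine Matrix.ext fun t α => congr_fun
      (F'.ext_tmul (x := fun t => (F'.a * Q.map (algebraMap k A)) t α)
        (y := fun t => (Q.map (algebraMap k A) * Cmat N F.a) t α) ?_) t
    trans Coalgebra.comul (R := k) (F.q N α)
    · rw [← hc α, map_sum]
      simp only [map_smul, F'.comul_m, Finset.smul_sum, Matrix.mul_apply, TensorProduct.tmul_sum]
      rw [Finset.sum_comm]
      refine Finset.sum_congr rfl fun s _ => Finset.sum_congr rfl fun u _ => ?_
      simp only [Q, Matrix.map_apply, Matrix.of_apply]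
      rw [← TensorProduct.tmul_smul, Algebra.smul_def, mul_comm]
    · rw [F.comul_q]
      simp only [Matrix.mul_apply, TensorProduct.tmul_sum]
      rw [Finset.sum_comm]
      refine Finset.sum_congr rfl fun β _ => ?_
      rw [← hc β, TensorProduct.sum_tmul]
      refine Finset.sum_congr rfl fun s _ => ?_
      simp only [Q, Matrix.map_apply, Matrix.of_apply]
      rw [← Algebra.smul_def, TensorProduct.smul_tmul]

variable {N}

lemma ev_comp {R : Type u} [CommRing R] [Algebra k R] {F' : WFam lam}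
    {Q : Matrix F'.ι (Mon F.ι N) k}
    (h : F'.a * Q.map (algebraMap k A) = Q.map (algebraMap k A) * Cmat N F.a) (g : Pt k A R) :
    F'.ev g * Q.map (algebraMap k R) = Q.map (algebraMap k R) * Cmat N (F.ev g) := by
  have h2 := congrArg (fun M : Matrix F'.ι (Mon F.ι N) A => M.map (g.ofConv : A →+* R)) h
  simp only [Matrix.map_mul, Matrix.map_map, ← Cmat_map] at h2
  rw [show ((g.ofConv : A →+* R) : A → R) ∘ algebraMap k A = algebraMap k R from
    funext g.ofConv.commutes] at h2
  exact h2

/-- The determinants cutting out the cell of a weight corepresentation. -/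
noncomputable def cellDet : A := ∏ i, (blk F.w (F.w i) F.a).det

lemma isUnit_cellDet_iff {R : Type u} [CommRing R] [Algebra k R] (g : Pt k A R) :
    IsUnit (g F.cellDet) ↔ ∀ i, IsUnit (blk F.w (F.w i) (F.ev g)).det := by
  show IsUnit (g.ofConv _) ↔ _
  rw [cellDet, map_prod, IsUnit.prod_iff]
  simp only [Finset.mem_univ, forall_true_left]
  refine forall_congr' fun i => ?_
  rw [AlgHom.map_det]
  rfl

lemma counit_cellDet : (1 : Pt k A k) F.cellDet = 1 := by
  show (1 : Pt k A k).ofConv _ = 1
  rw [cellDet, map_prod]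
  refine Finset.prod_eq_one fun i _ => ?_
  rw [AlgHom.map_det]
  show (blk F.w (F.w i) (F.ev (1 : Pt k A k))).det = 1
  rw [F.ev_one, blk_one, Matrix.det_one]

lemma isUnit_cellDet_of_mul (hneg : (lamNeg : A →ₐ[k] k[T;T⁻¹]) = Dyn.negParam k A lam)
    {R : Type u} [CommRing R] [Algebra k R] {gu gp : Pt k A R}
    (hu : gu ∈ U lamNeg R) (hp : gp ∈ P lam R) : IsUnit ((gu * gp) F.cellDet) := by
  rw [F.isUnit_cellDet_iff]
  intro i
  exact isUnit_blk_of_eq_mul (F.lowU_of_mem_U hneg hu) (F.up_of_mem_P hp) (F.ev_inv_mul gp)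
    (F.ev_mul gu gp) _

end WFam

variable [Algebra.FiniteType k A]

variable (lam) in
/-- A function whose non-vanishing locus is the product of the opposite contracted subgroup and the
subgroup of points with a limit. -/
theorem exists_cell (hneg : (lamNeg : A →ₐ[k] k[T;T⁻¹]) = Dyn.negParam k A lam) :
    ∃ d : A, Coalgebra.counit (R := k) d = 1 ∧
      (∀ (R : Type u) [CommRing R] [Algebra k R] (g : Pt k A R), IsUnit (g d) ↔
        ∃ gu gp : Pt k A R, gu ∈ U lamNeg R ∧ gp ∈ P lam R ∧ gu * gp = g) ∧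
      (∀ (R : Type u) [CommRing R] [Algebra k R] (gu gp gu' gp' : Pt k A R),
        gu ∈ U lamNeg R → gp ∈ P lam R → gu' ∈ U lamNeg R → gp' ∈ P lam R →
          gu * gp = gu' * gp' → gu = gu' ∧ gp = gp') ∧
      ∀ (R : Type u) [CommRing R] [Algebra k R] (g : Pt k A R),
        (∀ F : WFam lam, IsUnit (g F.cellDet)) → IsUnit (g d) := by
  classical
  obtain ⟨F, hgen⟩ := exists_gen_wfam lam
  have hsurj : Function.Surjective F.evalA := by
    rw [← AlgHom.range_eq_top, WFam.evalA, ← Algebra.adjoin_range_eq_range_aeval, hgen]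
  obtain ⟨rel, hrel⟩ := IsNoetherian.noetherian (RingHom.ker F.evalA.toRingHom)
  let N := rel.sup MvPolynomial.totalDegree
  obtain ⟨F', Q, hQ, hQdg, hQC⟩ := F.exists_monFam N
  refine ⟨F.cellDet * F'.cellDet, ?_, fun R _ _ g => ⟨fun hg => ?_, ?_⟩, ?_, fun R _ _ g hg => ?_⟩
  · show Bialgebra.counitAlgHom k A _ = 1
    rw [map_mul]
    exact (congrArg₂ (· * ·) F.counit_cellDet F'.counit_cellDet).trans (one_mul 1)
  · change IsUnit (g.ofConv _) at hg
    rw [map_mul, IsUnit.mul_iff] at hg
    obtain ⟨Nm, hNm, hpm⟩ := exists_low_up (F.ev g) ((F.isUnit_cellDet_iff g).1 hg.1)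
    obtain ⟨Nm', hNm', hpm'⟩ := exists_low_up (F'.ev g) ((F'.isUnit_cellDet_iff g).1 hg.2)
    obtain ⟨u, hu, huN, hNu⟩ := hNm.exists_inv
    obtain ⟨u', hu', huN', hNu'⟩ := hNm'.exists_inv
    let pm := Nm * F.ev g
    let qm := F.ev g⁻¹ * u
    have hqp : qm * pm = 1 := by
      show F.ev g⁻¹ * u * (Nm * F.ev g) = 1
      rw [mul_assoc, ← mul_assoc u, huN, one_mul, F.ev_inv_mul]
    have hqm : Up F.w qm := Up.inv hpm hqp
    have hgp : F.ev g = u * pm := by rw [← mul_assoc, huN, one_mul]
    let v : Mon F.ι N → ℤ := fun α => monWt F.w α.1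
    let Qg : Matrix F'.ι (Mon F.ι N) R := Q.map (algebraMap k R)
    have hQg : dg F'.w v Qg = Qg := by
      ext s α
      have h := congr_fun (congr_fun hQdg s) α
      simp only [dg_apply, Qg, Matrix.map_apply] at h ⊢
      split_ifs at h ⊢
      · rfl
      · rw [← h, map_zero]
    have hQneg : Tri (fun s => -F'.w s) (fun α => -v α) Qg := by
      refine tri_of_dg_eq (Eq.trans ?_ hQg)
      ext s α
      simp [dg_apply]
    have hCu : LowU v (Cmat N u) := Cmat_lowU N F.w hu
    let X := Nm' * Qg * Cmat N u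
    have hX1 : Tri F'.w v X := (hNm'.tri.mul (tri_of_dg_eq hQg)).mul hCu.tri
    have hXeq : X = (Nm' * F'.ev g) * Qg * Cmat N qm := by
      rw [Matrix.mul_assoc Nm' (F'.ev g) Qg,
        F.ev_comp hQC g, hgp, Cmat_mul]
      simp only [X, Qg, Matrix.mul_assoc]
      rw [← Cmat_mul, mul_eq_one_comm.1 hqp, Cmat_one, Matrix.mul_one]
    have hX2 : Tri (fun s => -F'.w s) (fun α => -v α) X := by
      rw [hXeq]
      exact (Tri.mul hpm' hQneg).mul (Cmat_up N F.w hqm)
    have hX : X = Qg := by
      rw [← dg_eq_self hX1 hX2, dg_mul (hNm'.tri.mul (tri_of_dg_eq hQg)) hCu.tri,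
        dg_mul hNm'.tri (tri_of_dg_eq hQg), hNm'.diag, hCu.diag, hQg, Matrix.one_mul, Matrix.mul_one]
    have hQC' : Qg * Cmat N u = u' * Qg := by
      conv_rhs => rw [← hX]
      simp only [X, ← Matrix.mul_assoc, huN', Matrix.one_mul]
    let φ : MvPolynomial (F.ι × F.ι) k →ₐ[k] R := MvPolynomial.aeval fun p => u p.1 p.2
    let e : F'.ι → R := fun s => algebraMap k R (Coalgebra.counit (F'.m s))
    have hmon : ∀ α : Mon F.ι N, φ (monomial α.1 1) = Matrix.vecMul (Matrix.vecMul e u') Qg α := by
      intro α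
      have h1 : φ (monomial α.1 1) =
          MvPolynomial.eval (fun p : F.ι × F.ι => ((1 : Matrix F.ι F.ι R) * u) p.1 p.2)
            (monomial α.1 1) := by
        simp only [φ, MvPolynomial.aeval_monomial, MvPolynomial.eval_monomial, map_one, one_mul]
      rw [h1, aeval_mul_monomial, Matrix.vecMul_vecMul, ← hQC', ← Matrix.vecMul_vecMul]
      refine Finset.sum_congr rfl fun β _ => ?_
      congr 1
      rw [← F.ev_one, ← F.point_q, AlgHom.convOne_apply, hQ, map_sum, map_sum]
      refine Finset.sum_congr rfl fun s _ => ?_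
      rw [map_smul, smul_eq_mul, map_mul, mul_comm]
      rfl
    have hker : RingHom.ker F.evalA.toRingHom ≤ RingHom.ker φ.toRingHom := by
      rw [← hrel, Ideal.submodule_span_eq, Ideal.span_le]
      intro f hf
      have hfdeg : ∀ α ∈ f.support, α.degree ≤ N := fun α hα => by
        refine le_trans ?_ (Finset.le_sup (f := MvPolynomial.totalDegree) (Finset.mem_coe.1 hf))
        exact Finset.le_sup (f := fun s : (F.ι × F.ι) →₀ ℕ => s.sum fun _ e => e) hα
      let c : Mon F.ι N → k := fun α => f.coeff α.1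
      have hfsum : f = ∑ α : Mon F.ι N, c α • monomial α.1 (1 : k) := by
        refine MvPolynomial.ext _ _ fun γ => ?_
        rw [MvPolynomial.coeff_sum]
        simp only [MvPolynomial.coeff_smul, MvPolynomial.coeff_monomial, smul_eq_mul, mul_ite,
          mul_one, mul_zero]
        by_cases hγ : γ.degree ≤ N
        · rw [Finset.sum_eq_single (⟨γ, hγ⟩ : Mon F.ι N)
            (fun β _ hβ => if_neg fun h => hβ (Subtype.ext h))
            (fun h => absurd (Finset.mem_univ _) h), if_pos rfl]
        · rw [Finset.sum_eq_zero fun β _ => if_neg fun h : β.1 = γ => hγ (h ▸ β.2)]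
          exact MvPolynomial.notMem_support_iff.1 fun h => hγ (hfdeg γ h)
      have hf0 : F.evalA f = 0 := by
        have : f ∈ RingHom.ker F.evalA.toRingHom := hrel ▸ Submodule.subset_span hf
        exact this
      have hQc : ∀ s, ∑ α : Mon F.ι N, Q s α * c α = 0 := by
        rw [hfsum, map_sum] at hf0
        simp only [map_smul] at hf0
        change ∑ α : Mon F.ι N, c α • F.q N α = 0 at hf0
        simp only [hQ, Finset.smul_sum, smul_smul] at hf0
        rw [Finset.sum_comm] at hf0
        simp only [← Finset.sum_smul] at hf0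
        intro s
        rw [← Fintype.linearIndependent_iff.1 F'.li _ hf0 s]
        exact Finset.sum_congr rfl fun α _ => mul_comm _ _
      show φ f = 0
      rw [hfsum, map_sum]
      simp only [map_smul, hmon, Matrix.vecMul, dotProduct, Finset.smul_sum]
      rw [Finset.sum_comm]
      refine Finset.sum_eq_zero fun s _ => ?_
      have h3 : ∑ α : Mon F.ι N, Qg s α * algebraMap k R (c α) = 0 := by
        simp only [Qg, Matrix.map_apply, ← map_mul, ← map_sum, hQc, map_zero]
      refine Eq.trans ?_ (mul_eq_zero_of_right (∑ t, e t * u' t s) h3)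
      rw [Finset.mul_sum]
      exact Finset.sum_congr rfl fun α _ => by rw [Algebra.smul_def]; ring
    let gu : Pt k A R := toConv (F.evalA.liftOfSurjective hsurj φ hker)
    have hgu : F.ev gu = u := by
      ext i j
      have h1 : F.evalA (MvPolynomial.X (i, j)) = F.a i j := MvPolynomial.aeval_X _ _
      rw [WFam.ev_apply, ← h1]
      show F.evalA.liftOfSurjective hsurj φ hker _ = _
      rw [AlgHom.liftOfSurjective_apply]
      exact MvPolynomial.aeval_X _ _
    refine ⟨gu, gu⁻¹ * g, F.mem_U_of_lowU hgen hneg (hgu ▸ hu), F.mem_P_of_up hgen ?_,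
      mul_inv_cancel_left gu g⟩
    have hinv : F.ev gu⁻¹ = Nm := by
      have := F.ev_inv_mul gu
      rw [hgu] at this
      calc F.ev gu⁻¹ = F.ev gu⁻¹ * (u * Nm) := by rw [huN, mul_one]
        _ = Nm := by rw [← mul_assoc, this, one_mul]
    rw [F.ev_mul, hinv]
    exact hpm
  · rintro ⟨gu, gp, hu, hp, rfl⟩
    show IsUnit ((gu * gp).ofConv _)
    rw [map_mul, IsUnit.mul_iff]
    exact ⟨F.isUnit_cellDet_of_mul hneg hu hp, F'.isUnit_cellDet_of_mul hneg hu hp⟩
  · intro R _ _ gu gp gu' gp' hu hp hu' hp' h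
    have hxu : gu'⁻¹ * gu ∈ U lamNeg R := mul_mem (inv_mem hu') hu
    have hxp : gu'⁻¹ * gu ∈ P lam R := by
      have : gu'⁻¹ * gu = gp' * gp⁻¹ := by
        rw [eq_mul_inv_iff_mul_eq, mul_assoc, h, inv_mul_cancel_left]
      rw [this]
      exact mul_mem hp' (inv_mem hp)
    have h1 := F.lowU_of_mem_U hneg hxu
    have h2 : F.ev (gu'⁻¹ * gu) = F.ev (1 : Pt k A R) := by
      rw [← dg_eq_self h1.tri (F.up_of_mem_P hxp), h1.diag, F.ev_one]
    have h3 : gu'⁻¹ * gu = 1 := WithConv.ofConv_injective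
      (F.adjoin_comp_eq _ _ hgen fun i j => congr_fun (congr_fun h2 i) j)
    have h4 : gu = gu' := (inv_mul_eq_one.1 h3).symm
    exact ⟨h4, mul_left_cancel (h4 ▸ h : gu * gp = gu * gp')⟩
  · show IsUnit (g.ofConv _)
    rw [map_mul, IsUnit.mul_iff]
    exact ⟨hg F, hg F'⟩

end Groth.Agent.Dynamic
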