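import Groth.Agent.Dynamic.Levi

/-!
# The grading of the coordinate ring by a one-parameter subgroup
-/

set_option autoImplicit false
universe u

open LaurentPolynomial TensorProduct WithConv

namespace Groth.Agent.Dynamic

variable {k : Type u} [CommRing k] {A : Type u} [CommRing A] [HopfAlgebra k A]
  (lam : A →ₐc[k] k[T;T⁻¹])

/-- A coefficient, as a linear map. -/
noncomputable def coeffLM {R : Type u} [CommRing R] [Algebra k R] (n : ℤ) :
    R[T;T⁻¹] →ₗ[k] R where
  toFun p := p.coeff n
  map_add' p q := by rw [AddMonoidAlgebra.coeff_add, Finsupp.add_apply]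
  map_smul' c p := by rw [AddMonoidAlgebra.coeff_smul, Finsupp.smul_apply, RingHom.id_apply]

@[simp] lemma coeffLM_apply {R : Type u} [CommRing R] [Algebra k R] (n : ℤ) (p : R[T;T⁻¹]) :
    coeffLM (k := k) n p = p.coeff n := rfl

lemma ev1_eq_sum {R : Type u} [CommRing R] [Algebra k R] (p : R[T;T⁻¹]) (s : Finset ℤ)
    (hs : p.coeff.support ⊆ s) : ev1 (k := k) R p = ∑ n ∈ s, p.coeff n := by
  conv_lhs => rw [← AddMonoidAlgebra.sum_coeff_single p]
  rw [Finsupp.sum, map_sum]
  simp only [ev1_single]
  exact Finset.sum_subset hs fun n _ hn => Finsupp.notMem_support_iff.1 hn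

/-- The weight components. -/
noncomputable def proj (n : ℤ) : A →ₗ[k] A := (coeffLM n).comp (cA lam).toLinearMap

lemma proj_apply (n : ℤ) (a : A) : proj lam n a = (cA lam a).coeff n := rfl

lemma coeff_dbl {R : Type u} [CommRing R] [Algebra k R] (p : R[T;T⁻¹]) (m : ℤ) :
    (dbl (k := k) R p).coeff m = AddMonoidAlgebra.single m (p.coeff m) := by
  induction p using AddMonoidAlgebra.induction_linear with
  | zero => simp
  | add p q hp hq =>
    rw [map_add (dbl (k := k) R), AddMonoidAlgebra.coeff_add, Finsupp.add_apply, hp, hq,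
      AddMonoidAlgebra.coeff_add, Finsupp.add_apply, AddMonoidAlgebra.single_add]
  | single n r =>
    rw [dbl_single, AddMonoidAlgebra.coeff_single, AddMonoidAlgebra.coeff_single]
    by_cases h : n = m
    · subst h; simp [-LaurentPolynomial.single_eq_C_mul_T]
    · simp [Finsupp.single_eq_of_ne' h, -LaurentPolynomial.single_eq_C_mul_T]

lemma cA_proj (n : ℤ) (a : A) :
    cA lam (proj lam n a) = AddMonoidAlgebra.single n (proj lam n a) := by
  have h := orb_orb lam (toConv (AlgHom.id k A))
  have h2 := congr(($h a).coeff n)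
  rw [coeff_orb, push_apply, coeff_dbl] at h2
  exact h2

lemma proj_proj (m n : ℤ) (a : A) :
    proj lam m (proj lam n a) = if m = n then proj lam n a else 0 := by
  rw [proj_apply lam m, cA_proj, AddMonoidAlgebra.coeff_single, Finsupp.single_apply]
  split_ifs <;> first | rfl | omega

lemma comul_proj (N : ℤ) (b : A) :
    Coalgebra.comul (R := k) (proj lam N b) =
      (coeffLM N).comp (Algebra.TensorProduct.lift
        ((mapL (Algebra.TensorProduct.includeLeft (R := k) (S := k) (A := A) (B := A))).comp (cA lam))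
        ((mapL (Algebra.TensorProduct.includeRight (R := k) (A := A) (B := A))).comp (cA lam))
        (fun _ _ => .all _ _)).toLinearMap (Coalgebra.comul b) := by
  let g₁ : Pt k A (A ⊗[k] A) := toConv Algebra.TensorProduct.includeLeft
  let g₂ : Pt k A (A ⊗[k] A) := toConv Algebra.TensorProduct.includeRight
  have hd : (g₁ * g₂).ofConv = Bialgebra.comulAlgHom k A := by
    refine AlgHom.ext fun a => ?_
    show (g₁ * g₂) a = _
    rw [AlgHom.convMul_apply]
    have : Algebra.TensorProduct.lift g₁.ofConv g₂.ofConv (fun _ _ => .all _ _) =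
        AlgHom.id k (A ⊗[k] A) := by
      ext a
      · show (a ⊗ₜ[k] (1 : A)) * ((1 : A) ⊗ₜ[k] (1 : A)) = a ⊗ₜ[k] (1 : A)
        simp
      · show ((1 : A) ⊗ₜ[k] (1 : A)) * ((1 : A) ⊗ₜ[k] a) = (1 : A) ⊗ₜ[k] a
        simp
    rw [this]
    rfl
  have h2 := congr(($(map_mul (orb lam (A ⊗[k] A)) g₁ g₂) b).coeff N)
  rw [AlgHom.convMul_apply, coeff_orb, orb_eq_mapL_comp_cA, orb_eq_mapL_comp_cA] at h2
  rw [show (g₁ * g₂) ((cA lam b).coeff N) = Bialgebra.comulAlgHom k A ((cA lam b).coeff N) from
    congr($hd _)] at h2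
  exact h2

lemma map_proj_comul (m n : ℤ) (b : A) :
    TensorProduct.map (proj lam m) (proj lam n) (Coalgebra.comul b) =
      TensorProduct.map (proj lam m) (proj lam n) (Coalgebra.comul (proj lam (m + n) b)) := by
  rw [comul_proj]
  generalize Coalgebra.comul (R := k) b = t
  induction t using TensorProduct.induction_on with
  | zero => simp
  | add s t hs ht => rw [map_add, map_add, map_add, ← hs, ← ht]
  | tmul x y =>
    simp only [LinearMap.comp_apply, AlgHom.toLinearMap_apply, Algebra.TensorProduct.lift_tmul,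
      AlgHom.comp_apply, coeffLM_apply]
    set p := cA lam x with hp
    set q := cA lam y with hq
    rw [← AddMonoidAlgebra.sum_coeff_single p, ← AddMonoidAlgebra.sum_coeff_single q,
      Finsupp.sum, Finsupp.sum, map_sum, map_sum, Finset.sum_mul_sum,
      AddMonoidAlgebra.coeff_sum, Finset.sum_apply']
    simp only [AddMonoidAlgebra.coeff_sum, Finset.sum_apply', AddMonoidAlgebra.mapAlgHom_single,
      AddMonoidAlgebra.single_mul_single, AddMonoidAlgebra.coeff_single,
      Algebra.TensorProduct.includeLeft_apply, Algebra.TensorProduct.includeRight_apply,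
      Algebra.TensorProduct.tmul_mul_tmul, one_mul, mul_one, map_sum]
    rw [Finset.sum_eq_single m, Finset.sum_eq_single n]
    · rw [Finsupp.single_eq_same, TensorProduct.map_tmul, TensorProduct.map_tmul]
      rw [hp, hq, ← proj_apply lam m x, ← proj_apply lam n y, proj_proj, proj_proj, if_pos rfl,
        if_pos rfl]
    · intro j _ hj
      rw [Finsupp.single_eq_of_ne' (by omega), map_zero]
    · intro hn
      rw [Finsupp.notMem_support_iff.1 hn, TensorProduct.tmul_zero, Finsupp.single_zero,
        Finsupp.zero_apply, map_zero]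
    · intro i _ hi
      refine Finset.sum_eq_zero fun j _ => ?_
      by_cases hij : i + j = m + n
      · rw [hij, Finsupp.single_eq_same, TensorProduct.map_tmul, hp, ← proj_apply lam i x,
          proj_proj, if_neg (Ne.symm hi), TensorProduct.zero_tmul]
      · rw [Finsupp.single_eq_of_ne' hij, map_zero]
    · intro hm
      refine Finset.sum_eq_zero fun j _ => ?_
      rw [Finsupp.notMem_support_iff.1 hm, TensorProduct.zero_tmul, Finsupp.single_zero,
        Finsupp.zero_apply, map_zero]

end Groth.Agent.Dynamic
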