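import Groth.Agent.Dynamic.Grading
import Mathlib.RingTheory.Smooth.Basic

/-!
# Points close to the identity, and lifting limits along square-zero extensions
-/

set_option autoImplicit false
universe u

open LaurentPolynomial TensorProduct WithConv

namespace Groth.Agent.Dynamic

variable {k : Type u} [CommRing k] {A : Type u} [CommRing A] [HopfAlgebra k A]
  {C D : Type u} [CommRing C] [Algebra k C] [CommRing D] [Algebra k D]

/-- The distance of a point from the identity, at a function. -/
noncomputable def dev (x : Pt k A C) (a : A) : C := x a - algebraMap k C (Coalgebra.counit a)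

lemma dev_def (x : Pt k A C) (a : A) : dev x a = x a - algebraMap k C (Coalgebra.counit a) := rfl

/-- The kernel of a homomorphism has square zero. -/
def SqKer (f : C →ₐ[k] D) : Prop := ∀ u v : C, f u = 0 → f v = 0 → u * v = 0

lemma dev_push (f : C →ₐ[k] D) (x : Pt k A C) (a : A) : dev (push f x) a = f (dev x a) := by
  rw [dev_def, dev_def, push_apply, map_sub, AlgHom.commutes]

lemma dev_one (a : A) : dev (1 : Pt k A C) a = 0 := by
  rw [dev_def, AlgHom.convOne_apply, sub_self]

lemma map_dev_eq_zero {f : C →ₐ[k] D} {x : Pt k A C} (hx : push f x = 1) (a : A) :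
    f (dev x a) = 0 := by rw [← dev_push, hx, dev_one]

lemma dev_mul {x y : Pt k A C} (h : ∀ a b, dev x a * dev y b = 0) (a : A) :
    dev (x * y) a = dev x a + dev y a := by
  have key : ∀ t : A ⊗[k] A, Algebra.TensorProduct.lift x.ofConv y.ofConv (fun _ _ => .all _ _) t =
      x (TensorProduct.rid k A ((Coalgebra.counit (R := k) (A := A)).lTensor A t)) +
        y (TensorProduct.lid k A ((Coalgebra.counit (R := k) (A := A)).rTensor A t)) -
        algebraMap k C (TensorProduct.lid k k
          (TensorProduct.map (Coalgebra.counit (R := k) (A := A)) (Coalgebra.counit (R := k) (A := A)) t)) := by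
    intro t
    induction t using TensorProduct.induction_on with
    | zero => simp
    | add s t hs ht => simp only [map_add, hs, ht]; ring
    | tmul p q =>
      simp only [Algebra.TensorProduct.lift_tmul, LinearMap.lTensor_tmul, TensorProduct.rid_tmul,
        LinearMap.rTensor_tmul, TensorProduct.lid_tmul, TensorProduct.map_tmul, map_smul,
        smul_eq_mul, map_mul, Algebra.smul_def, map_mul, AlgHom.commutes]
      have := h p q
      rw [dev_def, dev_def] at this
      linear_combination this
  have h3 : TensorProduct.lid k k (TensorProduct.map (Coalgebra.counit (R := k) (A := A))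
      (Coalgebra.counit (R := k) (A := A)) (Coalgebra.comul a)) = Coalgebra.counit (R := k) a := by
    rw [← LinearMap.lTensor_comp_rTensor, LinearMap.comp_apply, Coalgebra.rTensor_counit_comul,
      LinearMap.lTensor_tmul, TensorProduct.lid_tmul, one_smul]
  rw [dev_def, dev_def, dev_def, AlgHom.convMul_apply, key, Coalgebra.lTensor_counit_comul,
    Coalgebra.rTensor_counit_comul, TensorProduct.rid_tmul, TensorProduct.lid_tmul, one_smul,
    h3]
  ring

lemma dev_inv {x : Pt k A C} (h : ∀ a b, dev x a * dev x b = 0) (a : A) :
    dev x⁻¹ a = - dev x a := by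
  have hi : ∀ b, dev x⁻¹ b = dev x (HopfAlgebra.antipode k b) := fun b => by
    rw [dev_def, dev_def, HopfAlgebra.counit_antipode]
    rfl
  have h2 := dev_mul (x := x) (y := x⁻¹) (fun p q => by rw [hi, h]) a
  rw [mul_inv_cancel, dev_one] at h2
  exact eq_neg_of_add_eq_zero_right h2.symm

variable {R S : Type u} [CommRing R] [Algebra k R] [CommRing S] [Algebra k S]

lemma mapL_eq_zero_iff (f : R →ₐ[k] S) (p : R[T;T⁻¹]) :
    mapL f p = 0 ↔ ∀ n, f (p.coeff n) = 0 := by
  constructor
  · intro h n
    rw [← AddMonoidAlgebra.coeff_mapAlgHom, h]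
    rfl
  · intro h
    refine LaurentPolynomial.ext fun n => ?_
    rw [AddMonoidAlgebra.coeff_mapAlgHom, h]
    rfl

lemma SqKer.mapL {f : R →ₐ[k] S} (hf : SqKer f) : SqKer (mapL f) := by
  intro u v hu hv
  rw [mapL_eq_zero_iff] at hu hv
  rw [← AddMonoidAlgebra.sum_coeff_single u, ← AddMonoidAlgebra.sum_coeff_single v, Finsupp.sum,
    Finsupp.sum, Finset.sum_mul_sum]
  refine Finset.sum_eq_zero fun i _ => Finset.sum_eq_zero fun j _ => ?_
  rw [AddMonoidAlgebra.single_mul_single, hf _ _ (hu i) (hv j), AddMonoidAlgebra.single_zero]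

lemma SqKer.orth {f : C →ₐ[k] D} (hf : SqKer f) {x y : Pt k A C} (hx : push f x = 1)
    (hy : push f y = 1) (a b : A) : dev x a * dev y b = 0 :=
  hf _ _ (map_dev_eq_zero hx a) (map_dev_eq_zero hy b)

/-! ### Selecting weights. -/

open Classical in
/-- The sum of the coefficients in a set of degrees. -/
noncomputable def sel (s : Set ℤ) : R[T;T⁻¹] →+ R where
  toFun p := p.coeff.sum fun n c => if n ∈ s then c else 0
  map_zero' := by simp
  map_add' p q := by
    rw [AddMonoidAlgebra.coeff_add, Finsupp.sum_add_index' (fun n => by split_ifs <;> rfl)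
      (fun n b c => by split_ifs <;> simp)]

open Classical in
lemma sel_single (s : Set ℤ) (n : ℤ) (c : R) :
    sel s (AddMonoidAlgebra.single n c) = if n ∈ s then c else 0 := by
  show ((AddMonoidAlgebra.single n c : R[T;T⁻¹]).coeff.sum fun n c => if n ∈ s then c else 0) = _
  rw [AddMonoidAlgebra.coeff_single, Finsupp.sum_single_index (by split_ifs <;> rfl)]

lemma sel_C_mul (s : Set ℤ) (r : R) (p : R[T;T⁻¹]) :
    sel s (LaurentPolynomial.C r * p) = r * sel s p := by
  classical
  induction p using AddMonoidAlgebra.induction_linear with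
  | zero => simp
  | add p q hp hq => rw [mul_add, map_add, hp, hq, map_add, mul_add]
  | single n c =>
    rw [← LaurentPolynomial.single_eq_C, AddMonoidAlgebra.single_mul_single, zero_add, sel_single,
      sel_single]
    split_ifs <;> simp

lemma sel_map (s : Set ℤ) (f : R →ₐ[k] S) (p : R[T;T⁻¹]) : f (sel s p) = sel s (mapL f p) := by
  classical
  induction p using AddMonoidAlgebra.induction_linear with
  | zero => simp
  | add p q hp hq => rw [map_add, map_add, hp, hq, map_add, map_add]
  | single n c =>
    rw [sel_single, AddMonoidAlgebra.mapAlgHom_single, sel_single]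
    split_ifs <;> simp

lemma sel_add_sel_compl (s : Set ℤ) (p : R[T;T⁻¹]) :
    sel s p + sel sᶜ p = ev1 (k := k) R p := by
  classical
  induction p using AddMonoidAlgebra.induction_linear with
  | zero => simp
  | add p q hp hq => rw [map_add, map_add, map_add, ← hp, ← hq]; ring
  | single n c =>
    rw [sel_single, sel_single, ev1_single]
    by_cases h : n ∈ s <;> simp [h]

variable {T₀ : Type u} [CommRing T₀] [Algebra k T₀] {q : R →ₐ[k] T₀}

/-- The point made of the selected weights of an infinitesimal Laurent point. -/
noncomputable def selPt (hq : SqKer q) (s : Set ℤ) (x : Pt k A R[T;T⁻¹])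
    (hx : push (mapL q) x = 1) : Pt k A R :=
  toConv
    { toFun := fun a => algebraMap k R (Coalgebra.counit a) + sel s (dev x a)
      map_one' := by simp [dev_def]
      map_mul' := fun a b => by
        have hmul : dev x (a * b) = LaurentPolynomial.C (algebraMap k R (Coalgebra.counit a)) * dev x b +
            LaurentPolynomial.C (algebraMap k R (Coalgebra.counit b)) * dev x a := by
          have h0 := hq.mapL.orth hx hx a b
          simp only [dev_def, Bialgebra.counit_mul, map_mul] at h0 ⊢
          simp only [LaurentPolynomial.algebraMap_apply] at h0 ⊢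
          linear_combination h0
        have hz : sel s (dev x a) * sel s (dev x b) = 0 :=
          hq _ _ (by rw [sel_map, map_dev_eq_zero hx, map_zero])
            (by rw [sel_map, map_dev_eq_zero hx, map_zero])
        rw [hmul, map_add, sel_C_mul, sel_C_mul, Bialgebra.counit_mul, map_mul]
        linear_combination -hz
      map_zero' := by simp [dev_def]
      map_add' := fun a b => by
        simp only [dev_def, map_add, map_sub]
        ring
      commutes' := fun r => by
        simp [dev_def] }

lemma dev_selPt (hq : SqKer q) (s : Set ℤ) (x : Pt k A R[T;T⁻¹]) (hx : push (mapL q) x = 1)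
    (a : A) : dev (selPt hq s x hx) a = sel s (dev x a) := by
  rw [dev_def]
  exact add_sub_cancel_left _ _

lemma push_selPt (hq : SqKer q) (s : Set ℤ) (x : Pt k A R[T;T⁻¹]) (hx : push (mapL q) x = 1) :
    push q (selPt hq s x hx) = 1 := by
  refine WithConv.ofConv_injective (AlgHom.ext fun a => ?_)
  have h := dev_push q (selPt hq s x hx) a
  rw [dev_selPt, sel_map, map_dev_eq_zero hx, map_zero, dev_def, sub_eq_zero] at h
  exact h.trans (AlgHom.convOne_apply a).symm

variable (lam : A →ₐc[k] k[T;T⁻¹])

lemma counit_proj (n : ℤ) (a : A) :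
    Coalgebra.counit (R := k) (proj lam n a) = if n = 0 then Coalgebra.counit a else 0 := by
  have h := congr(($(map_one (orb lam k)) a).coeff n)
  rw [coeff_orb, AlgHom.convOne_apply, AlgHom.convOne_apply] at h
  rw [proj_apply]
  refine h.trans ?_
  rw [LaurentPolynomial.algebraMap_apply, LaurentPolynomial.C_apply]
  rfl

lemma coeff_dev_orb (g : Pt k A R) (a : A) (n : ℤ) :
    (dev (orb lam R g) a).coeff n = dev g (proj lam n a) := by
  rw [dev_def, dev_def, AddMonoidAlgebra.coeff_sub, Finsupp.sub_apply, coeff_orb, counit_proj,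
    LaurentPolynomial.algebraMap_apply, LaurentPolynomial.C_apply, proj_apply]
  split_ifs <;> simp

/-- `x` has weight `n` in degree `n`, for the degrees in `s`. -/
def Equiv' (s : Set ℤ) (x : Pt k A R[T;T⁻¹]) : Prop :=
  ∀ m ∈ s, ∀ (n : ℤ) (a : A),
    (dev x (proj lam n a)).coeff m = if m = n then (dev x a).coeff m else 0

open Classical in
lemma coeff_dev_orb_selPt (hq : SqKer q) (s : Set ℤ) (x : Pt k A R[T;T⁻¹])
    (hx : push (mapL q) x = 1) (he : Equiv' lam s x) (a : A) (n : ℤ) :
    (dev (orb lam R (selPt hq s x hx)) a).coeff n = if n ∈ s then (dev x a).coeff n else 0 := by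
  rw [coeff_dev_orb, dev_selPt]
  show ((dev x (proj lam n a)).coeff.sum fun m c => if m ∈ s then c else 0) = _
  rw [Finsupp.sum, Finset.sum_eq_single n]
  · split_ifs with h
    · rw [he n h n a, if_pos rfl]
    · rfl
  · intro m _ hm
    split_ifs with h
    · rw [he m h n a, if_neg hm]
    · rfl
  · intro h
    rw [Finsupp.notMem_support_iff.1 h]
    split_ifs <;> rfl

lemma equiv'_orb (s : Set ℤ) (g : Pt k A R) : Equiv' lam s (orb lam R g) := by
  intro m _ n a
  rw [coeff_dev_orb, coeff_dev_orb, proj_proj]
  split_ifs with h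
  · subst h; rfl
  · rw [dev_def, show g (0 : A) = 0 from map_zero g.ofConv, map_zero, map_zero, sub_zero]

end Groth.Agent.Dynamic
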