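import Groth.Agent.Dynamic.Inf
import Groth.Agent.Dynamic.Levi

/-!
# Lifting points with a limit
-/

set_option autoImplicit false
universe u

open LaurentPolynomial TensorProduct WithConv

namespace Groth.Agent.Dynamic

variable {k : Type u} [CommRing k] {A : Type u} [CommRing A] [HopfAlgebra k A]
  (lam : A →ₐc[k] k[T;T⁻¹]) {R : Type u} [CommRing R] [Algebra k R]

variable (k R) in
/-- The exchange of the inner and the outer variable. -/
noncomputable def swapVar : (R[T;T⁻¹])[T;T⁻¹] →ₐ[k] (R[T;T⁻¹])[T;T⁻¹] :=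
  AddMonoidAlgebra.liftNCAlgHom (outer (k := k) R)
    { toFun := fun n => LaurentPolynomial.C (LaurentPolynomial.T n.toAdd)
      map_one' := by simp
      map_mul' := fun m n => by simp only [toAdd_mul, LaurentPolynomial.T_add, map_mul] }
    (fun _ _ => Commute.all _ _)

lemma swapVar_single (n : ℤ) (p : R[T;T⁻¹]) :
    swapVar k R (AddMonoidAlgebra.single n p) =
      outer (k := k) R p * LaurentPolynomial.C (LaurentPolynomial.T n) := by
  exact AddMonoidAlgebra.liftNC_single _ _ _ _

lemma coeff_coeff_swapVar (p : (R[T;T⁻¹])[T;T⁻¹]) (m n : ℤ) :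
    ((swapVar k R p).coeff m).coeff n = (p.coeff n).coeff m := by
  induction p using AddMonoidAlgebra.induction_linear with
  | zero => simp
  | add p q hp hq =>
    rw [map_add (swapVar k R)]
    simp only [AddMonoidAlgebra.coeff_add, Finsupp.add_apply, hp, hq]
  | single j c =>
    rw [swapVar_single, mul_comm, ← LaurentPolynomial.single_eq_C,
      AddMonoidAlgebra.coeff_single_zero_mul, AddMonoidAlgebra.coeff_mapAlgHom]
    show ((AddMonoidAlgebra.single j (1 : R) : R[T;T⁻¹]) *
      AddMonoidAlgebra.single 0 (c.coeff m)).coeff n = _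
    rw [AddMonoidAlgebra.single_mul_single, add_zero, one_mul, AddMonoidAlgebra.coeff_single,
      AddMonoidAlgebra.coeff_single, Finsupp.single_apply, Finsupp.single_apply]
    split_ifs <;> simp

lemma push_swapVar_L : push (swapVar k R) (L lam R[T;T⁻¹]) = push (inner R) (L lam R) := by
  have h : (swapVar k R).comp (AddMonoidAlgebra.mapAlgHom ℤ (Algebra.ofId k R[T;T⁻¹])) =
      (inner R).comp (AddMonoidAlgebra.mapAlgHom ℤ (Algebra.ofId k R)) := by
    apply AddMonoidAlgebra.algHom_ext
    · intro n
      simp only [AlgHom.comp_apply, AddMonoidAlgebra.mapAlgHom_single, map_one]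
      rw [swapVar_single, map_one, one_mul]
      rfl
    · ext
  exact WithConv.ofConv_injective (AlgHom.ext fun a => congr($h (lam a)))

lemma push_swapVar_orb (x : Pt k A R[T;T⁻¹]) :
    push (swapVar k R) (orb lam R[T;T⁻¹] x) =
      push (inner R) (L lam R) * push (outer R) x * (push (inner R) (L lam R))⁻¹ := by
  have hC : (swapVar k R).comp (Cc R[T;T⁻¹]) = outer R := by
    refine AlgHom.ext fun p => ?_
    show swapVar k R (AddMonoidAlgebra.single 0 p) = _
    rw [swapVar_single, LaurentPolynomial.T_zero, map_one, mul_one]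
  rw [orb_apply, map_mul, map_mul, map_inv, push_swapVar_L, push_push, hC]

lemma mapL_mapL_comp_dbl {S : Type u} [CommRing S] [Algebra k S] (f : R →ₐ[k] S) :
    (mapL (mapL f)).comp (dbl R) = (dbl S).comp (mapL f) := by
  refine AlgHom.ext fun p => ?_
  induction p using AddMonoidAlgebra.induction_linear with
  | zero => simp only [map_zero]
  | add p q hp hq => simp only [map_add, hp, hq]
  | single n r =>
    simp only [AlgHom.comp_apply, dbl_single, AddMonoidAlgebra.mapAlgHom_single]

lemma toL_comp_map {S : Type u} [CommRing S] [Algebra k S] (f : R →ₐ[k] S) :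
    (toL k S).comp (Polynomial.mapAlgHom f) = (mapL f).comp (toL k R) := by
  refine AlgHom.ext fun q => ?_
  induction q using Polynomial.induction_on' with
  | add p q hp hq => rw [map_add, map_add, hp, hq]
  | monomial m r =>
    show Polynomial.toLaurent (Polynomial.map (f : R →+* S) (Polynomial.monomial m r)) =
      mapL f (Polynomial.toLaurent (Polynomial.monomial m r))
    rw [Polynomial.map_monomial, Polynomial.toLaurent_C_mul_T, Polynomial.toLaurent_C_mul_T,
      ← LaurentPolynomial.single_eq_C_mul_T, ← LaurentPolynomial.single_eq_C_mul_T,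
      AddMonoidAlgebra.mapAlgHom_single]
    rfl

variable {T₀ : Type u} [CommRing T₀] [Algebra k T₀] {q : R →ₐ[k] T₀}

lemma SqKer.mapPoly (hq : SqKer q) : SqKer (Polynomial.mapAlgHom q) := by
  intro u v hu hv
  refine toL_injective (k := k) ?_
  rw [map_mul, map_zero]
  refine hq.mapL _ _ ?_ ?_
  · rw [← AlgHom.comp_apply, ← toL_comp_map, AlgHom.comp_apply, hu, map_zero]
  · rw [← AlgHom.comp_apply, ← toL_comp_map, AlgHom.comp_apply, hv, map_zero]

lemma coeff_dev_toL (B : Pt k A (Polynomial R)) (a : A) {m : ℤ} (hm : m < 0) :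
    (dev (push (toL k R) B) a).coeff m = 0 := by
  rw [dev_push]
  exact (mem_range_toL (k := k) _).1 ⟨_, rfl⟩ m hm

lemma coeff_dev_toL_zero (B : Pt k A (Polynomial R)) (hB : push (ev0 k R) B = 1) (a : A) :
    (dev (push (toL k R) B) a).coeff 0 = 0 := by
  rw [dev_push, coeff_toL_zero, ← ev0_apply (k := k), map_dev_eq_zero hB]

open Classical in
/-- The error term of a lift of a limit has weight `n` in every degree `n` that the limit forbids. -/
lemma equiv'_error (hq : SqKer q) {g : Pt k A R} {h : Pt k A (Polynomial R)} {x : Pt k A R[T;T⁻¹]}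
    (hx : push (mapL q) x = 1) (hgx : orb lam R g = push (toL k R) h * x) (s : Set ℤ)
    (hs : ∀ m ∈ s, m < 0 ∨ m = 0 ∧ push (ev0 k R) h = 1) : Equiv' lam s x := by
  intro m hm n a
  let R' := R[T;T⁻¹]
  let iL : Pt k A R'[T;T⁻¹] := push (inner R) (L lam R)
  let mC : Polynomial R →ₐ[k] Polynomial R' := Polynomial.mapAlgHom (Cc R)
  let CC : R' →ₐ[k] Polynomial R' := Polynomial.CAlgHom
  have t1 : (toL k R').comp CC = inner R := AlgHom.ext fun p => Polynomial.toLaurent_C p
  have t2 : (toL k R').comp mC = (outer R).comp (toL k R) := toL_comp_map (Cc R)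
  let B : Pt k A (Polynomial R') :=
    (push (dblPoly R) h)⁻¹ * (push CC (L lam R) * push mC h * (push CC (L lam R))⁻¹)
  let conjO : Pt k A R'[T;T⁻¹] := iL * push (outer R) x * iL⁻¹
  have hdbl : push (dbl R) x = push (toL k R') B * conjO := by
    have e := push_dbl_orb lam g
    rw [hgx, map_mul, push_push, map_mul, push_push, ← toL_comp_dblPoly] at e
    simp only [B, conjO, iL, map_mul, map_inv, push_push, t1, t2]
    rw [eq_comm, ← mul_left_cancel_iff (a := push ((toL k R').comp (dblPoly R)) h), e]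
    group
  have hf2 : SqKer (mapL (mapL q)) := hq.mapL.mapL
  have h1 : push (mapL (mapL q)) (push (dbl R) x) = 1 := by
    rw [push_push, mapL_mapL_comp_dbl, ← push_push (mapL q) (dbl T₀), hx, map_one]
  have h2 : push (mapL (mapL q)) conjO = 1 := by
    have ho : (mapL (mapL q)).comp (outer R) = (outer T₀).comp (mapL q) := by
      show (mapL (mapL q)).comp (mapL (Cc R)) = (mapL (Cc T₀)).comp (mapL q)
      rw [← AddMonoidAlgebra.mapRangeAlgHom_comp, ← AddMonoidAlgebra.mapRangeAlgHom_comp, mapL_comp_Cc]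
    simp only [conjO, map_mul, map_inv, push_push, ho]
    rw [← push_push (mapL q) (outer T₀), hx, map_one, mul_one, mul_inv_cancel]
  have h3 : push (mapL (mapL q)) (push (toL k R') B) = 1 := by
    have := congrArg (push (mapL (mapL q))) hdbl
    rw [map_mul, h1, h2, mul_one] at this
    exact this.symm
  have hsum : ∀ b, dev (push (dbl R) x) b = dev (push (toL k R') B) b + dev conjO b := fun b => by
    rw [hdbl]
    exact dev_mul (hf2.orth h3 h2) b
  have hB0 : (dev (push (toL k R') B) a).coeff m = 0 := by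
    rcases hs m hm with hneg | ⟨rfl, h0⟩
    · exact coeff_dev_toL B a hneg
    · refine coeff_dev_toL_zero B ?_ a
      have t3 : (ev0 k R').comp CC = AlgHom.id k _ := by
        refine AlgHom.ext fun p => ?_
        show ev0 k R' (Polynomial.C p) = p
        rw [ev0_apply, Polynomial.coeff_C_zero]
      have t4 : (ev0 k R').comp mC = (Cc R).comp (ev0 k R) := by
        refine AlgHom.ext fun p => ?_
        show ev0 k R' (Polynomial.map (Cc (k := k) R : R →+* R') p) = Cc (k := k) R (ev0 k R p)
        rw [ev0_apply, ev0_apply, Polynomial.coeff_map]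
        rfl
      simp only [B, map_mul, map_inv, push_push]
      rw [t3, t4, ev0_comp_dblPoly]
      simp only [← push_push (ev0 k R) (Cc R), h0, map_one, mul_one, inv_one, one_mul, mul_inv_cancel]
  have key := congr((($(hsum a)).coeff m).coeff n)
  rw [AddMonoidAlgebra.coeff_add, Finsupp.add_apply, hB0, zero_add, dev_push, coeff_dbl,
    show conjO = push (swapVar k R) (orb lam R' x) from (push_swapVar_orb lam x).symm,
    dev_push, coeff_coeff_swapVar, coeff_dev_orb, AddMonoidAlgebra.coeff_single,
    Finsupp.single_apply] at key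
  rw [← key]

variable [Algebra.FormallySmooth k A]

lemma exists_lift_point (hq : SqKer q) (hsurj : Function.Surjective q) (g₀ : Pt k A T₀) :
    ∃ g : Pt k A R, push q g = g₀ := by
  have hnil : IsNilpotent (RingHom.ker (q : R →+* T₀)) := ⟨2, by
    rw [pow_two, Ideal.zero_eq_bot, eq_bot_iff, Ideal.mul_le]
    exact fun u hu v hv => (Submodule.mem_bot _).2 (hq u v hu hv)⟩
  exact ⟨toConv (Algebra.FormallySmooth.liftOfSurjective g₀.ofConv q hsurj hnil),
    WithConv.ofConv_injective (Algebra.FormallySmooth.comp_liftOfSurjective _ q hsurj hnil)⟩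

omit [Algebra.FormallySmooth k A] in
open Classical in
lemma exists_correction (hq : SqKer q) {g : Pt k A R} {h : Pt k A (Polynomial R)}
    (hgh : push (mapL q) (orb lam R g) = push (mapL q) (push (toL k R) h)) (s : Set ℤ)
    (hneg : ∀ m : ℤ, m < 0 → m ∈ s)
    (hs : ∀ m ∈ s, m < 0 ∨ m = 0 ∧ push (ev0 k R) h = 1) :
    ∃ (g' : Pt k A R) (y : Pt k A (Polynomial R)), push q g' = push q g ∧
      orb lam R g' = push (toL k R) (h * y) ∧ ((0 : ℤ) ∈ s → push (ev0 k R) y = 1) := by
  let x := (push (toL k R) h)⁻¹ * orb lam R g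
  have hx : push (mapL q) x = 1 := by
    rw [map_mul, map_inv, hgh, inv_mul_cancel]
  have hgx : orb lam R g = push (toL k R) h * x := (mul_inv_cancel_left _ _).symm
  have he := equiv'_error lam hq hx hgx s hs
  let E := selPt hq s x hx
  have hE : push q E = 1 := push_selPt hq s x hx
  have hoE : push (mapL q) (orb lam R E) = 1 := by rw [push_orb, hE, map_one]
  have hoEi : push (mapL q) (orb lam R E)⁻¹ = 1 := by rw [map_inv, hoE, inv_one]
  have hdev : ∀ a n, (dev (x * (orb lam R E)⁻¹) a).coeff n =
      if n ∈ s then 0 else (dev x a).coeff n := by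
    intro a n
    rw [dev_mul (hq.mapL.orth hx hoEi), dev_inv (hq.mapL.orth hoE hoE), AddMonoidAlgebra.coeff_add,
      Finsupp.add_apply, AddMonoidAlgebra.coeff_neg, Finsupp.neg_apply,
      coeff_dev_orb_selPt lam hq s x hx he]
    split_ifs <;> simp
  have hval : ∀ a n, n ∈ s →
      ((x * (orb lam R E)⁻¹) a).coeff n = if n = 0 then algebraMap k R (Coalgebra.counit a) else 0 := by
    intro a n hn
    have := hdev a n
    rw [if_pos hn, dev_def, AddMonoidAlgebra.coeff_sub, Finsupp.sub_apply, sub_eq_zero,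
      LaurentPolynomial.algebraMap_apply, LaurentPolynomial.C_apply] at this
    exact this
  obtain ⟨y, hy⟩ := exists_lift (x * (orb lam R E)⁻¹).ofConv
    fun a n hn => (hval a n (hneg n hn)).trans (if_neg (by omega))
  refine ⟨g * E⁻¹, toConv y, by rw [map_mul, map_inv, hE, inv_one, mul_one], ?_, fun h0 => ?_⟩
  · have hy' : push (toL k R) (toConv y) = x * (orb lam R E)⁻¹ := WithConv.ofConv_injective hy
    rw [map_mul, map_inv, hgx, map_mul, hy', mul_assoc]
  · refine WithConv.ofConv_injective (AlgHom.ext fun a => ?_)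
    show ev0 k R (y a) = (1 : Pt k A R) a
    rw [ev0_apply, ← coeff_toL_zero (k := k), show toL k R (y a) = (x * (orb lam R E)⁻¹) a from
      congr($hy a), hval a 0 h0, if_pos rfl, AlgHom.convOne_apply]

lemma exists_lift_mem_P (hq : SqKer q) (hsurj : Function.Surjective q) {g₀ : Pt k A T₀}
    (hg₀ : g₀ ∈ P lam T₀) : ∃ g ∈ P lam R, push q g = g₀ := by
  obtain ⟨g, hg⟩ := exists_lift_point hq hsurj g₀
  obtain ⟨h₀, hh₀⟩ := (mem_P lam).1 hg₀
  obtain ⟨h, hh⟩ := exists_lift_point hq.mapPoly (Polynomial.map_surjective _ hsurj) h₀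
  have hgh : push (mapL q) (orb lam R g) = push (mapL q) (push (toL k R) h) := by
    rw [push_orb, hg, push_push, ← toL_comp_map, ← push_push _ (toL k T₀), hh, hh₀]
  obtain ⟨g', y, hg', hy, -⟩ := exists_correction lam hq hgh {m | m < 0} (fun m hm => hm)
    (fun m hm => Or.inl hm)
  exact ⟨g', (mem_P lam).2 ⟨h * y, hy.symm⟩, hg'.trans hg⟩

lemma exists_lift_mem_U (hq : SqKer q) (hsurj : Function.Surjective q) {g₀ : Pt k A T₀}
    (hg₀ : g₀ ∈ U lam T₀) : ∃ g ∈ U lam R, push q g = g₀ := by
  obtain ⟨g, hg⟩ := exists_lift_point hq hsurj g₀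
  obtain ⟨h₀, h00, hh₀⟩ := (mem_U lam).1 hg₀
  obtain ⟨h₁, hh₁⟩ := exists_lift_point hq.mapPoly (Polynomial.map_surjective _ hsurj) h₀
  -- normalise the value at zero
  set h := push Polynomial.CAlgHom (push (ev0 k R) h₁)⁻¹ * h₁ with hdef
  have hev : (ev0 k R).comp (Polynomial.CAlgHom (R := k) (A := R)) = AlgHom.id k R :=
    AlgHom.ext fun r => (ev0_apply (k := k) (Polynomial.C r)).trans Polynomial.coeff_C_zero
  have h0 : push (ev0 k R) h = 1 := by
    rw [hdef, map_mul, push_push, hev]
    exact inv_mul_cancel _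
  have hh : push (Polynomial.mapAlgHom q) h = h₀ := by
    have e1 : (Polynomial.mapAlgHom q).comp (Polynomial.CAlgHom (R := k) (A := R)) =
        (Polynomial.CAlgHom (R := k) (A := T₀)).comp q := AlgHom.ext fun r => Polynomial.map_C _
    have e2 : q.comp (ev0 k R) = (ev0 k T₀).comp (Polynomial.mapAlgHom q) := by
      refine AlgHom.ext fun p => ?_
      show q (ev0 k R p) = ev0 k T₀ (Polynomial.map (q : R →+* T₀) p)
      rw [ev0_apply, ev0_apply, Polynomial.coeff_map]
      rfl
    rw [hdef, map_mul, hh₁, push_push, e1, ← push_push q, map_inv (push q), push_push, e2,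
      ← push_push _ (ev0 k T₀), hh₁, h00, inv_one, map_one, one_mul]
  have hgh : push (mapL q) (orb lam R g) = push (mapL q) (push (toL k R) h) := by
    rw [push_orb, hg, push_push, ← toL_comp_map, ← push_push _ (toL k T₀), hh, hh₀]
  obtain ⟨g', y, hg', hy, hy0⟩ := exists_correction lam hq hgh {m | m ≤ 0}
    (fun m hm => le_of_lt hm) (fun m hm => (lt_or_eq_of_le hm).imp_right fun e => ⟨e, h0⟩)
  refine ⟨g', (mem_U lam).2 ⟨h * y, ?_, hy.symm⟩, hg'.trans hg⟩
  rw [map_mul, h0, hy0 (Set.mem_setOf.2 le_rfl), one_mul]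

end Groth.Agent.Dynamic
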