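import Mathlib.LinearAlgebra.Matrix.Block
import Mathlib.LinearAlgebra.Matrix.NonsingularInverse

/-!
# Matrices filtered by integer weights
-/

set_option autoImplicit false
set_option linter.style.haveILetI false

open Matrix Finset

namespace Groth.Agent.Dynamic

variable {ι κ μ : Type*} {R : Type*} [CommRing R]

/-- The entries respect the weights. -/
def Tri (w : ι → ℤ) (v : κ → ℤ) (M : Matrix ι κ R) : Prop := ∀ i j, v j < w i → M i j = 0

/-- The weight preserving part. -/
def dg (w : ι → ℤ) (v : κ → ℤ) (M : Matrix ι κ R) : Matrix ι κ R :=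
  Matrix.of fun i j => if w i = v j then M i j else 0

lemma dg_apply (w : ι → ℤ) (v : κ → ℤ) (M : Matrix ι κ R) (i : ι) (j : κ) :
    dg w v M i j = if w i = v j then M i j else 0 := rfl

lemma dg_one [DecidableEq ι] (w : ι → ℤ) : dg w w (1 : Matrix ι ι R) = 1 := by
  ext i j
  rw [dg_apply, Matrix.one_apply]
  split_ifs <;> simp_all

lemma tri_of_dg_eq {w : ι → ℤ} {v : κ → ℤ} {M : Matrix ι κ R} (h : dg w v M = M) : Tri w v M :=
  fun i j hij => by rw [← h, dg_apply, if_neg (by omega)]

lemma dg_eq_self {w : ι → ℤ} {v : κ → ℤ} {M : Matrix ι κ R}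
    (h : Tri w v M) (h' : Tri (fun i => -w i) (fun j => -v j) M) : dg w v M = M := by
  ext i j
  rw [dg_apply]
  split_ifs with he
  · rfl
  · rcases lt_or_gt_of_ne he with hlt | hgt
    · exact (h' i j (by dsimp only; omega)).symm
    · exact (h i j hgt).symm

variable [Fintype κ]

lemma Tri.mul {w : ι → ℤ} {v : κ → ℤ} {x : μ → ℤ} {M : Matrix ι κ R} {N : Matrix κ μ R}
    (hM : Tri w v M) (hN : Tri v x N) : Tri w x (M * N) := by
  intro i j hij
  rw [Matrix.mul_apply]
  refine Finset.sum_eq_zero fun l _ => ?_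
  by_cases h : v l < w i
  · rw [hM i l h, zero_mul]
  · rw [hN l j (by omega), mul_zero]

lemma dg_mul {w : ι → ℤ} {v : κ → ℤ} {x : μ → ℤ} {M : Matrix ι κ R} {N : Matrix κ μ R}
    (hM : Tri w v M) (hN : Tri v x N) : dg w x (M * N) = dg w v M * dg v x N := by
  ext i j
  rw [dg_apply, Matrix.mul_apply, Matrix.mul_apply]
  split_ifs with h
  · refine Finset.sum_congr rfl fun l _ => ?_
    rw [dg_apply, dg_apply]
    rcases lt_trichotomy (v l) (w i) with hl | hl | hl
    · rw [hM i l hl, zero_mul, if_neg (by omega), zero_mul]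
    · rw [if_pos hl.symm, if_pos (by omega)]
    · rw [hN l j (by omega), mul_zero, if_neg (by omega), zero_mul]
  · refine (Finset.sum_eq_zero fun l _ => ?_).symm
    rw [dg_apply, dg_apply]
    by_cases hl : w i = v l
    · rw [if_neg (fun h' => h (hl.trans h')), mul_zero]
    · rw [if_neg hl, zero_mul]

variable [Fintype ι] [DecidableEq ι]

/-- Lower unipotent. -/
structure LowU (w : ι → ℤ) (M : Matrix ι ι R) : Prop where
  tri : Tri w w M
  diag : dg w w M = 1

/-- Upper. -/
def Up (w : ι → ℤ) (M : Matrix ι ι R) : Prop := Tri (fun i => -w i) (fun i => -w i) M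

lemma LowU.det {w : ι → ℤ} {M : Matrix ι ι R} (h : LowU w M) : M.det = 1 := by
  have hb : M.BlockTriangular w := fun i j hij => h.tri i j hij
  rw [hb.det]
  refine Finset.prod_eq_one fun a _ => ?_
  have : M.toSquareBlock w a = 1 := by
    ext i j
    have hd := congr_fun (congr_fun h.diag i.1) j.1
    rw [dg_apply, if_pos (i.2.trans j.2.symm)] at hd
    rw [Matrix.toSquareBlock_def, Matrix.of_apply, hd, Matrix.one_apply, Matrix.one_apply]
    simp only [Subtype.ext_iff]
  rw [this, Matrix.det_one]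

lemma LowU.exists_inv {w : ι → ℤ} {M : Matrix ι ι R} (h : LowU w M) :
    ∃ N, LowU w N ∧ N * M = 1 ∧ M * N = 1 := by
  have hu : IsUnit M.det := by rw [h.det]; exact isUnit_one
  haveI := Matrix.invertibleOfIsUnitDet M hu
  have hb : M.BlockTriangular w := fun i j hij => h.tri i j hij
  have hbi := Matrix.blockTriangular_inv_of_blockTriangular hb
  have ht : Tri w w M⁻¹ := fun i j hij => hbi hij
  refine ⟨M⁻¹, ⟨ht, ?_⟩, Matrix.nonsing_inv_mul M hu, Matrix.mul_nonsing_inv M hu⟩
  have := dg_mul (x := w) ht h.tri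
  rw [Matrix.nonsing_inv_mul M hu, dg_one, h.diag, mul_one] at this
  exact this.symm

lemma Up.inv {w : ι → ℤ} {M N : Matrix ι ι R} (h : Up w M) (hNM : N * M = 1) : Up w N := by
  have hu : IsUnit M.det := Matrix.isUnit_det_of_left_inverse hNM
  haveI := Matrix.invertibleOfIsUnitDet M hu
  have hb : M.BlockTriangular (fun i => -w i) := fun i j hij => h i j hij
  have hbi := Matrix.blockTriangular_inv_of_blockTriangular hb
  rw [Matrix.inv_eq_left_inv hNM] at hbi
  exact fun i j hij => hbi hij

/-- The block of the weights greater than `m`. -/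
abbrev blk (w : ι → ℤ) (m : ℤ) (M : Matrix ι ι R) : Matrix {i // m < w i} {i // m < w i} R :=
  M.toSquareBlockProp fun i => m < w i

omit [Fintype ι] in
lemma blk_one (w : ι → ℤ) (m : ℤ) : blk w m (1 : Matrix ι ι R) = 1 := by
  ext i j
  simp only [blk, Matrix.toSquareBlockProp_def, Matrix.of_apply, Matrix.one_apply, Subtype.ext_iff]

omit [DecidableEq ι] in
lemma blk_mul_left {w : ι → ℤ} {M N : Matrix ι ι R} (hM : Tri w w M) (m : ℤ) :
    blk w m (M * N) = blk w m M * blk w m N := by
  ext i j
  simp only [blk, Matrix.toSquareBlockProp_def, Matrix.of_apply, Matrix.mul_apply]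
  rw [← Fintype.sum_subtype_add_sum_subtype (fun l => m < w l) (fun l => M i.1 l * N l j.1)]
  refine (congrArg₂ (· + ·) rfl (Finset.sum_eq_zero fun l _ => ?_)).trans (add_zero _)
  rw [hM i.1 l.1 (by have := i.2; have := l.2; omega), zero_mul]

omit [DecidableEq ι] in
lemma blk_mul_right {w : ι → ℤ} {M N : Matrix ι ι R} (hN : Up w N) (m : ℤ) :
    blk w m (M * N) = blk w m M * blk w m N := by
  ext i j
  simp only [blk, Matrix.toSquareBlockProp_def, Matrix.of_apply, Matrix.mul_apply]
  rw [← Fintype.sum_subtype_add_sum_subtype (fun l => m < w l) (fun l => M i.1 l * N l j.1)]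
  refine (congrArg₂ (· + ·) rfl (Finset.sum_eq_zero fun l _ => ?_)).trans (add_zero _)
  rw [hN l.1 j.1 (by have := j.2; have := l.2; dsimp only; omega), mul_zero]

lemma isUnit_blk_of_eq_mul {w : ι → ℤ} {M u p q : Matrix ι ι R} (hu : LowU w u) (hp : Up w p)
    (hqp : q * p = 1) (hM : M = u * p) (m : ℤ) : IsUnit (blk w m M).det := by
  obtain ⟨N, hN, hNu, -⟩ := hu.exists_inv
  rw [hM, blk_mul_left hu.tri, Matrix.det_mul, IsUnit.mul_iff]
  refine ⟨Matrix.isUnit_det_of_left_inverse (B := blk w m N) ?_,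
    Matrix.isUnit_det_of_left_inverse (B := blk w m q) ?_⟩
  · rw [← blk_mul_left hN.tri, hNu, blk_one]
  · rw [← blk_mul_right hp, hqp, blk_one]

lemma exists_low_up {w : ι → ℤ} (M : Matrix ι ι R) (h : ∀ i, IsUnit (blk w (w i) M).det) :
    ∃ N, LowU w N ∧ Up w (N * M) := by
  let c : ∀ i, {l // w i < w l} → R := fun i =>
    Matrix.vecMul (fun l : {l // w i < w l} => -M i l.1) (blk w (w i) M)⁻¹
  let N : Matrix ι ι R := Matrix.of fun i l =>
    if hl : w i < w l then c i ⟨l, hl⟩ else (1 : Matrix ι ι R) i l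
  refine ⟨N, ⟨fun i j hij => ?_, ?_⟩, fun i j hij => ?_⟩
  · simp only [N, Matrix.of_apply, dif_neg (by omega : ¬ w i < w j)]
    exact Matrix.one_apply_ne (by rintro rfl; omega)
  · ext i j
    rw [dg_apply]
    split_ifs with he
    · simp only [N, Matrix.of_apply, dif_neg (by omega : ¬ w i < w j)]
    · exact (Matrix.one_apply_ne (fun h => he (by rw [h]))).symm
  · have hij' : w i < w j := by simpa using hij
    rw [Matrix.mul_apply,
      ← Fintype.sum_subtype_add_sum_subtype (fun l => w i < w l) (fun l => N i l * M l j)]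
    have h1 : (∑ l : {l // w i < w l}, N i l.1 * M l.1 j) = -M i j := by
      have hinv : (blk w (w i) M)⁻¹ * blk w (w i) M = 1 := Matrix.nonsing_inv_mul _ (h i)
      have hc : Matrix.vecMul (c i) (blk w (w i) M) = fun l : {l // w i < w l} => -M i l.1 := by
        rw [Matrix.vecMul_vecMul, hinv, Matrix.vecMul_one]
      refine Eq.trans ?_ (congr_fun hc ⟨j, hij'⟩)
      simp only [Matrix.vecMul, dotProduct]
      refine Finset.sum_congr rfl fun l _ => ?_
      simp only [N, Matrix.of_apply, dif_pos l.2, blk, Matrix.toSquareBlockProp_def]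
    have h2 : (∑ l : {l // ¬ w i < w l}, N i l.1 * M l.1 j) = M i j := by
      rw [Finset.sum_eq_single (⟨i, lt_irrefl _⟩ : {l // ¬ w i < w l})]
      · simp [N]
      · intro l _ hl
        simp only [N, Matrix.of_apply, dif_neg l.2]
        rw [Matrix.one_apply_ne (fun h => hl (Subtype.ext h.symm)), zero_mul]
      · simp
    rw [h1, h2, neg_add_cancel]

end Groth.Agent.Dynamic
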