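import Groth.Agent.Dynamic.Grading
import Groth.Prelude.Def_HopfRep

/-!
# The subgroup of points contracted by `λ`
-/

set_option autoImplicit false
universe u

open LaurentPolynomial TensorProduct WithConv

namespace Groth.Agent.Dynamic

variable {k : Type u} [CommRing k] {A : Type u} [CommRing A] [HopfAlgebra k A]
  (lam : A →ₐc[k] k[T;T⁻¹]) (J : Ideal A)
  (hJ : ∀ (R : Type u) [CommRing R] [Algebra k R] (g : Pt k A R),
    (∀ a ∈ J, g a = 0) ↔ g ∈ U lam R)

/-- The tautological point of the quotient. -/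
noncomputable abbrev mkPt : Pt k A (A ⧸ J) := toConv (Ideal.Quotient.mkₐ k J)

include hJ in
lemma mkPt_mem_U : mkPt J ∈ U lam (A ⧸ J) :=
  (hJ _ _).1 fun _ ha => Ideal.Quotient.eq_zero_iff_mem.2 ha

include hJ in
lemma orb_mkPt_mem_U : orb lam (A ⧸ J) (mkPt J) ∈ U lam (A ⧸ J)[T;T⁻¹] := by
  obtain ⟨h, h0, hh⟩ := (mem_U lam).1 (mkPt_mem_U lam J hJ)
  refine (mem_U lam).2 ⟨push (dblPoly _) h, ?_, ?_⟩
  · rw [push_push, ev0_comp_dblPoly, ← push_push (ev0 k _) (Cc _), h0, map_one]
  · rw [push_push, toL_comp_dblPoly, ← push_push (toL k _) (dbl _), hh, orb_orb]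

/-- The orbit on the quotient. -/
noncomputable def cB : A ⧸ J →ₐ[k] (A ⧸ J)[T;T⁻¹] :=
  Ideal.Quotient.liftₐ J (orb lam (A ⧸ J) (mkPt J)).ofConv
    ((hJ _ _).2 (orb_mkPt_mem_U lam J hJ))

/-- The weight components on the quotient. -/
noncomputable def qproj (n : ℤ) : A ⧸ J →ₗ[k] A ⧸ J :=
  (coeffLM n).comp (cB lam J hJ).toLinearMap

lemma qproj_mk (n : ℤ) (a : A) :
    qproj lam J hJ n (Ideal.Quotient.mk J a) = Ideal.Quotient.mk J (proj lam n a) :=
  coeff_orb lam (mkPt J) a n

lemma qproj_neg {n : ℤ} (hn : n < 0) (b : A ⧸ J) : qproj lam J hJ n b = 0 := by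
  obtain ⟨a, rfl⟩ := Ideal.Quotient.mk_surjective b
  rw [qproj_mk]
  exact (mem_P_iff_coeff lam).1 (U_le_P lam (mkPt_mem_U lam J hJ)) a n hn

lemma qproj_qproj (m n : ℤ) (b : A ⧸ J) :
    qproj lam J hJ m (qproj lam J hJ n b) = if m = n then qproj lam J hJ n b else 0 := by
  obtain ⟨a, rfl⟩ := Ideal.Quotient.mk_surjective b
  rw [qproj_mk, qproj_mk, proj_proj]
  split_ifs <;> simp

lemma eq_sum_qproj (b : A ⧸ J) (s : Finset ℤ) (hs : (cB lam J hJ b).coeff.support ⊆ s) :
    b = ∑ n ∈ s, qproj lam J hJ n b := by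
  have h : ev1 (k := k) _ (cB lam J hJ b) = b := by
    obtain ⟨a, rfl⟩ := Ideal.Quotient.mk_surjective b
    exact congr($(push_ev1_orb lam (mkPt J)) a)
  conv_lhs => rw [← h, ev1_eq_sum (k := k) _ s hs]
  rfl

variable [J.IsHopfIdeal k]

lemma qproj_zero (b : A ⧸ J) :
    qproj lam J hJ 0 b = algebraMap k (A ⧸ J) (Coalgebra.counit b) := by
  obtain ⟨a, rfl⟩ := Ideal.Quotient.mk_surjective b
  rw [qproj_mk, Bialgebra.Quotient.counit_mk]
  exact ((mem_U_iff_coeff lam).1 (mkPt_mem_U lam J hJ)).2 a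

lemma map_qproj_comul (m n : ℤ) (b : A ⧸ J) :
    TensorProduct.map (qproj lam J hJ m) (qproj lam J hJ n) (Coalgebra.comul b) =
      TensorProduct.map (qproj lam J hJ m) (qproj lam J hJ n)
        (Coalgebra.comul (qproj lam J hJ (m + n) b)) := by
  obtain ⟨a, rfl⟩ := Ideal.Quotient.mk_surjective b
  have key : ∀ t : A ⊗[k] A,
      TensorProduct.map (qproj lam J hJ m) (qproj lam J hJ n)
        (TensorProduct.map (Ideal.Quotient.mkₐ k J).toLinearMap
          (Ideal.Quotient.mkₐ k J).toLinearMap t) =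
      TensorProduct.map (Ideal.Quotient.mkₐ k J).toLinearMap (Ideal.Quotient.mkₐ k J).toLinearMap
        (TensorProduct.map (proj lam m) (proj lam n) t) := by
    intro t
    induction t using TensorProduct.induction_on with
    | zero => simp
    | add s t hs ht => simp only [map_add, hs, ht]
    | tmul x y =>
      simp only [TensorProduct.map_tmul, AlgHom.toLinearMap_apply, Ideal.Quotient.mkₐ_eq_mk,
        qproj_mk]
  rw [qproj_mk, Bialgebra.Quotient.comul_mk, Bialgebra.Quotient.comul_mk, key, key,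
    map_proj_comul]

lemma qproj_zero_of_bound {b : A ⧸ J} (h : ∀ n : ℤ, 0 < n → qproj lam J hJ n b = 0) :
    b = algebraMap k (A ⧸ J) (Coalgebra.counit b) := by
  rw [← qproj_zero lam J hJ]
  conv_lhs => rw [eq_sum_qproj lam J hJ b _ (Finset.subset_insert 0 _)]
  rw [Finset.sum_eq_single (0 : ℤ)]
  · intro n _ hn
    rcases lt_or_gt_of_ne hn with h' | h'
    exacts [qproj_neg lam J hJ h' b, h n h']
  · intro h0
    exact absurd (Finset.mem_insert_self _ _) h0

section Comod

variable {V : Type u} [AddCommGroup V] [Module k V] [HopfRep.Comod k (A ⧸ J) V]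

/-- Every tensor has finitely many weights. -/
lemma exists_bound (x : V ⊗[k] (A ⧸ J)) :
    ∃ s : Finset ℤ, (∀ n ∉ s, (qproj lam J hJ n).lTensor V x = 0) ∧
      x = ∑ n ∈ s, (qproj lam J hJ n).lTensor V x := by
  classical
  suffices h : ∃ s : Finset ℤ, ∀ t, s ⊆ t → (∀ n ∉ t, (qproj lam J hJ n).lTensor V x = 0) ∧
      x = ∑ n ∈ t, (qproj lam J hJ n).lTensor V x by
    obtain ⟨s, hs⟩ := h
    exact ⟨s, hs s Finset.Subset.rfl⟩
  induction x using TensorProduct.induction_on with
  | zero => exact ⟨∅, fun t _ => by simp⟩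
  | add a b ha hb =>
    obtain ⟨s, hs⟩ := ha
    obtain ⟨s', hs'⟩ := hb
    refine ⟨s ∪ s', fun t ht => ?_⟩
    obtain ⟨a1, a2⟩ := hs t (Finset.union_subset_left ht)
    obtain ⟨b1, b2⟩ := hs' t (Finset.union_subset_right ht)
    refine ⟨fun n hn => by rw [map_add, a1 n hn, b1 n hn, add_zero], ?_⟩
    conv_lhs => rw [a2, b2]
    simp only [map_add, Finset.sum_add_distrib]
  | tmul v b =>
    refine ⟨(cB lam J hJ b).coeff.support, fun t ht => ⟨fun n hn => ?_, ?_⟩⟩
    · have : qproj lam J hJ n b = 0 := Finsupp.notMem_support_iff.1 fun h => hn (ht h)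
      rw [LinearMap.lTensor_tmul, this, TensorProduct.tmul_zero]
    · simp only [LinearMap.lTensor_tmul, ← TensorProduct.tmul_sum, ← eq_sum_qproj lam J hJ b t ht]

local notation "ρ" => HopfRep.Comod.coact (k := k) (A := A ⧸ J) (V := V)

lemma coact_of_bound {v : V}
    (h : ∀ n : ℤ, 0 < n → (qproj lam J hJ n).lTensor V (ρ v) = 0) :
    ρ v = v ⊗ₜ[k] (1 : A ⧸ J) := by
  obtain ⟨s, hs, hsum⟩ := exists_bound lam J hJ (ρ v)
  have e0 : (qproj lam J hJ 0).lTensor V (ρ v) = v ⊗ₜ[k] (1 : A ⧸ J) := by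
    have hq : qproj lam J hJ 0 =
        (Algebra.linearMap k (A ⧸ J)).comp (Coalgebra.counit (R := k) (A := A ⧸ J)) :=
      LinearMap.ext (qproj_zero lam J hJ)
    have hc := congr($(HopfRep.Comod.counit_comp (k := k) (A := A ⧸ J) (V := V)) v)
    rw [hq, LinearMap.lTensor_comp, LinearMap.comp_apply]
    rw [LinearMap.comp_apply] at hc
    rw [hc, LinearMap.flip_apply, TensorProduct.mk_apply, LinearMap.lTensor_tmul,
      Algebra.linearMap_apply, map_one]
  rw [hsum, Finset.sum_eq_single (0 : ℤ), e0]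
  · intro n _ hn
    rcases lt_or_gt_of_ne hn with h' | h'
    · have : qproj lam J hJ n = 0 := LinearMap.ext fun b => qproj_neg lam J hJ h' b
      rw [this, LinearMap.lTensor_zero, LinearMap.zero_apply]
    · exact h n h'
  · exact hs 0

lemma lTensor_act (φ : (A ⧸ J) →ₗ[k] k) (m : (A ⧸ J) →ₗ[k] (A ⧸ J)) (v : V) :
    m.lTensor V (ρ (TensorProduct.rid k V (φ.lTensor V (ρ v)))) =
      (((TensorProduct.rid k (A ⧸ J)).toLinearMap.comp (TensorProduct.map m φ)).comp
        (Coalgebra.comul (R := k) (A := A ⧸ J))).lTensor V (ρ v) := by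
  have hco := congr($(HopfRep.Comod.coassoc (k := k) (A := A ⧸ J) (V := V)) v)
  simp only [LinearMap.comp_apply, LinearEquiv.coe_coe] at hco
  rw [LinearMap.lTensor_comp, LinearMap.comp_apply, ← hco]
  generalize ρ v = t
  induction t using TensorProduct.induction_on with
  | zero => simp
  | add s t hs ht => simp only [map_add, hs, ht]
  | tmul w b =>
    rw [LinearMap.lTensor_tmul, TensorProduct.rid_tmul, map_smul, map_smul, LinearMap.rTensor_tmul]
    generalize ρ w = r
    induction r using TensorProduct.induction_on with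
    | zero => simp
    | add s t hs ht => rw [map_add, smul_add, hs, ht, TensorProduct.add_tmul, map_add, map_add]
    | tmul x y =>
      simp only [LinearMap.lTensor_tmul, TensorProduct.assoc_tmul, LinearMap.comp_apply,
        TensorProduct.map_tmul, LinearEquiv.coe_coe, TensorProduct.rid_tmul,
        TensorProduct.tmul_smul]

end Comod

end Groth.Agent.Dynamic
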