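import Groth.Agent.Dynamic.Grading
import Groth.Agent.Dynamic.Tri
import Groth.Agent.Comod.Transfer
import Mathlib.RingTheory.Adjoin.Basic

/-!
# Weight corepresentations of a group with a one-parameter subgroup
-/

set_option autoImplicit false
set_option linter.style.haveILetI false
universe u

open LaurentPolynomial TensorProduct WithConv

namespace Groth.Agent.Dynamic

variable {k : Type u} [Field k] {A : Type u} [CommRing A] [HopfAlgebra k A]
  (lam : A →ₐc[k] k[T;T⁻¹]) {R : Type u} [CommRing R] [Algebra k R]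

/-- Right translation by `λ`. -/
noncomputable def rA : A →ₐ[k] A[T;T⁻¹] :=
  (push (Cc A) (toConv (AlgHom.id k A)) * L lam A).ofConv

/-- The weight components for right translation. -/
noncomputable def rproj (n : ℤ) : A →ₗ[k] A := (coeffLM n).comp (rA lam).toLinearMap

lemma rproj_apply (n : ℤ) (x : A) : rproj lam n x = (rA lam x).coeff n := rfl

lemma rproj_eq (n : ℤ) (x : A) : rproj lam n x =
    TensorProduct.rid k A
      (((coeffLM n).comp (lam : A →ₐ[k] k[T;T⁻¹]).toLinearMap).lTensor A (Coalgebra.comul x)) := by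
  rw [rproj_apply]
  show ((push (Cc A) (toConv (AlgHom.id k A)) * L lam A) x).coeff n = _
  rw [AlgHom.convMul_apply]
  generalize Coalgebra.comul (R := k) x = t
  induction t using TensorProduct.induction_on with
  | zero => simp
  | add s t hs ht =>
    rw [map_add, AddMonoidAlgebra.coeff_add, Finsupp.add_apply, hs, ht, map_add, map_add]
  | tmul y z =>
    rw [Algebra.TensorProduct.lift_tmul, LinearMap.lTensor_tmul, TensorProduct.rid_tmul]
    show ((AddMonoidAlgebra.single 0 y : A[T;T⁻¹]) *
      AddMonoidAlgebra.mapAlgHom ℤ (Algebra.ofId k A) (lam z)).coeff n = _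
    rw [AddMonoidAlgebra.coeff_single_zero_mul, AddMonoidAlgebra.coeff_mapAlgHom, Algebra.smul_def,
      mul_comm]
    rfl

lemma rA_rproj (n : ℤ) (x : A) :
    rA lam (rproj lam n x) = AddMonoidAlgebra.single n (rproj lam n x) := by
  have h : push (mapL (rA lam)) (toConv (rA lam)) = push (dbl A) (toConv (rA lam)) := by
    have e : toConv (rA lam) = push (Cc A) (toConv (AlgHom.id k A)) * L lam A := rfl
    conv_lhs => arg 2; rw [e]
    conv_rhs => rw [e]
    rw [map_mul, map_mul, push_push, push_push, push_L, mapL_comp_Cc, dbl_comp_Cc, push_dbl_L,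
      ← push_push (rA lam) (Cc A[T;T⁻¹]), ← push_L lam (Cc (k := k) A)]
    show push (Cc A[T;T⁻¹]) (toConv (rA lam)) * _ = _
    rw [e, map_mul, push_push, mul_assoc]
  have h2 := congr(($h x).coeff n)
  rw [push_apply, push_apply, AddMonoidAlgebra.coeff_mapAlgHom, coeff_dbl] at h2
  exact h2

/-- A weight corepresentation: an independent family of weight vectors with stable span. -/
structure WFam where
  ι : Type u
  [fintype : Fintype ι]
  [decEq : DecidableEq ι]
  m : ι → A
  w : ι → ℤ
  a : Matrix ι ι A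
  rA_m : ∀ i, rA lam (m i) = AddMonoidAlgebra.single (w i) (m i)
  li : LinearIndependent k m
  comul_m : ∀ j, Coalgebra.comul (R := k) (m j) = ∑ i, m i ⊗ₜ[k] a i j

attribute [instance] WFam.fintype WFam.decEq

variable {lam}

namespace WFam

variable (F : WFam lam)

lemma exists_coord (i : F.ι) : ∃ φ : A →ₗ[k] k, ∀ j, φ (F.m j) = if j = i then 1 else 0 := by
  obtain ⟨ψ, hψ⟩ := (Finsupp.linearCombination k F.m).exists_leftInverse_of_injective
    (LinearMap.ker_eq_bot.2 F.li)
  refine ⟨(Finsupp.lapply i).comp ψ, fun j => ?_⟩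
  have h := congr($hψ (Finsupp.single j 1) i)
  rw [LinearMap.comp_apply, Finsupp.linearCombination_single, one_smul, LinearMap.id_apply,
    Finsupp.single_apply] at h
  exact h

/-- A coordinate functional. -/
noncomputable def coord (i : F.ι) : A →ₗ[k] k := (F.exists_coord i).choose

lemma coord_m (i j : F.ι) : F.coord i (F.m j) = if j = i then 1 else 0 :=
  (F.exists_coord i).choose_spec j

lemma coord_sum (i : F.ι) {M : Type u} [AddCommGroup M] [Module k M] (x : F.ι → M) :
    TensorProduct.lid k M ((F.coord i).rTensor M (∑ j, F.m j ⊗ₜ[k] x j)) = x i := by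
  simp only [map_sum, LinearMap.rTensor_tmul, TensorProduct.lid_tmul, F.coord_m, ite_smul,
    one_smul, zero_smul, Finset.sum_ite_eq', Finset.mem_univ, if_true]

lemma ext_tmul {M : Type u} [AddCommGroup M] [Module k M] {x y : F.ι → M}
    (h : ∑ i, F.m i ⊗ₜ[k] x i = ∑ i, F.m i ⊗ₜ[k] y i) : x = y :=
  funext fun i => by rw [← F.coord_sum i x, h, F.coord_sum]

lemma a_eq (i j : F.ι) :
    F.a i j = TensorProduct.lid k A ((F.coord i).rTensor A (Coalgebra.comul (F.m j))) := by
  rw [F.comul_m, F.coord_sum]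

lemma counit_a : F.a.map (Bialgebra.counitAlgHom k A) = 1 := by
  ext i j
  rw [Matrix.map_apply]
  have h := congr(TensorProduct.rid k A ($(Coalgebra.lTensor_counit_comul (R := k) (F.m j))))
  rw [F.comul_m, map_sum, map_sum] at h
  simp only [LinearMap.lTensor_tmul, TensorProduct.rid_tmul, one_smul] at h
  have h2 := congr(F.coord i $h)
  simp only [map_sum, map_smul, F.coord_m, smul_eq_mul, mul_ite, mul_one, mul_zero,
    Finset.sum_ite_eq', Finset.mem_univ, if_true] at h2
  rw [Bialgebra.counitAlgHom_apply, h2, Matrix.one_apply]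
  simp only [eq_comm]

lemma comul_a (i j : F.ι) :
    Coalgebra.comul (R := k) (F.a i j) = ∑ l, F.a i l ⊗ₜ[k] F.a l j := by
  have h := Coalgebra.coassoc_apply (R := k) (F.m j)
  rw [F.comul_m, map_sum, map_sum, map_sum] at h
  simp only [LinearMap.rTensor_tmul, LinearMap.lTensor_tmul, F.comul_m, TensorProduct.sum_tmul,
    map_sum, TensorProduct.assoc_tmul] at h
  rw [Finset.sum_comm] at h
  simp only [← TensorProduct.tmul_sum] at h
  exact (congr_fun (F.ext_tmul h) i).symm

/-- The matrix of a point. -/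
noncomputable def ev (g : Pt k A R) : Matrix F.ι F.ι R := F.a.map g.ofConv

lemma ev_apply (g : Pt k A R) (i j : F.ι) : F.ev g i j = g (F.a i j) := rfl

lemma ev_mul (g h : Pt k A R) : F.ev (g * h) = F.ev g * F.ev h := by
  ext i j
  rw [ev_apply, AlgHom.convMul_apply, F.comul_a, map_sum, Matrix.mul_apply]
  simp only [Algebra.TensorProduct.lift_tmul]
  rfl

lemma ev_one : F.ev (1 : Pt k A R) = 1 := by
  ext i j
  rw [ev_apply, AlgHom.convOne_apply, ← Bialgebra.counitAlgHom_apply, ← Matrix.map_apply
    (M := F.a) (f := Bialgebra.counitAlgHom k A), F.counit_a, Matrix.one_apply, Matrix.one_apply,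
    apply_ite (algebraMap k R), map_one, map_zero]

lemma ev_inv_mul (g : Pt k A R) : F.ev g⁻¹ * F.ev g = 1 := by
  rw [← ev_mul, inv_mul_cancel, ev_one]

lemma ev_push {S : Type u} [CommRing S] [Algebra k S] (f : R →ₐ[k] S) (g : Pt k A R) :
    F.ev (push f g) = (F.ev g).map f := rfl

lemma lam_a (i j : F.ι) :
    lam (F.a i j) = if i = j then AddMonoidAlgebra.single (F.w j) (1 : k) else 0 := by
  refine LaurentPolynomial.ext fun n => ?_
  have h := rproj_eq lam n (F.m j)
  rw [rproj_apply, F.rA_m, F.comul_m, map_sum, map_sum] at h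
  simp only [LinearMap.lTensor_tmul, TensorProduct.rid_tmul] at h
  have h2 := congr(F.coord i $h)
  simp only [map_sum, map_smul, F.coord_m, smul_eq_mul, mul_ite, mul_one, mul_zero,
    Finset.sum_ite_eq', Finset.mem_univ, if_true] at h2
  refine h2.symm.trans ?_
  rw [AddMonoidAlgebra.coeff_single, Finsupp.single_apply]
  by_cases hij : i = j
  · subst hij
    rw [if_pos rfl, AddMonoidAlgebra.coeff_single, Finsupp.single_apply]
    split_ifs <;> simp [F.coord_m]
  · rw [if_neg hij]
    split_ifs <;> simp [F.coord_m, Ne.symm hij]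

lemma rA_a (i j : F.ι) : rA lam (F.a i j) = AddMonoidAlgebra.single (F.w j) (F.a i j) := by
  show (push (Cc A) (toConv (AlgHom.id k A)) * L lam A) (F.a i j) = _
  rw [← ev_apply, ev_mul, Matrix.mul_apply, Finset.sum_eq_single j]
  · rw [ev_apply, ev_apply]
    show (AddMonoidAlgebra.single 0 (F.a i j) : A[T;T⁻¹]) *
      AddMonoidAlgebra.mapAlgHom ℤ (Algebra.ofId k A) (lam (F.a j j)) = _
    rw [lam_a, if_pos rfl, AddMonoidAlgebra.mapAlgHom_single, AddMonoidAlgebra.single_mul_single,
      zero_add, map_one, mul_one]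
  · intro l _ hl
    rw [ev_apply _ (L lam A)]
    show _ * AddMonoidAlgebra.mapAlgHom ℤ (Algebra.ofId k A) (lam (F.a l j)) = _
    rw [lam_a, if_neg hl, map_zero, mul_zero]
  · exact fun h => absurd (Finset.mem_univ _) h

lemma ev_L : F.ev (L lam R) = Matrix.diagonal fun i => AddMonoidAlgebra.single (F.w i) (1 : R) := by
  refine Matrix.ext fun i j => ?_
  show AddMonoidAlgebra.mapAlgHom ℤ (Algebra.ofId k R) (lam (F.a i j)) = _
  rw [lam_a, Matrix.diagonal_apply]
  split_ifs with h
  · subst h
    rw [AddMonoidAlgebra.mapAlgHom_single, map_one]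
  · rw [map_zero]

lemma ev_orb (g : Pt k A R) (i j : F.ι) :
    F.ev (orb lam R g) i j = AddMonoidAlgebra.single (F.w i - F.w j) (F.ev g i j) := by
  have h : F.ev (orb lam R g) * F.ev (L lam R) = F.ev (L lam R) * F.ev (push (Cc R) g) := by
    rw [← ev_mul, ← ev_mul, orb_apply, inv_mul_cancel_right]
  have h2 := congr_fun (congr_fun h i) j
  rw [ev_L, Matrix.mul_diagonal, Matrix.diagonal_mul, ev_apply _ (push (Cc R) g), push_apply] at h2
  change _ = AddMonoidAlgebra.single (F.w i) (1 : R) * AddMonoidAlgebra.single 0 (F.ev g i j) at h2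
  rw [AddMonoidAlgebra.single_mul_single, add_zero, one_mul] at h2
  have h3 := congr($h2 * AddMonoidAlgebra.single (-F.w j) (1 : R))
  rwa [mul_assoc, AddMonoidAlgebra.single_mul_single, add_neg_cancel, one_mul,
    AddMonoidAlgebra.single_mul_single, mul_one, ← sub_eq_add_neg,
    show (AddMonoidAlgebra.single 0 (1 : R) : R[T;T⁻¹]) = 1 from rfl, mul_one] at h3

lemma up_of_mem_P {g : Pt k A R} (hg : g ∈ P lam R) : Up F.w (F.ev g) := by
  intro i j hij
  obtain ⟨h, hh⟩ := (mem_P lam).1 hg
  have h1 : F.ev (orb lam R g) i j ∈ (toL k R).range := ⟨h (F.a i j), congr($hh (F.a i j))⟩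
  rw [ev_orb, mem_range_toL] at h1
  have h2 := h1 (F.w i - F.w j) (by simp only at hij; omega)
  rwa [AddMonoidAlgebra.coeff_single, Finsupp.single_eq_same] at h2

lemma lowU_of_mem_U {lamNeg : A →ₐc[k] k[T;T⁻¹]}
    (hneg : (lamNeg : A →ₐ[k] k[T;T⁻¹]) = Dyn.negParam k A lam) {g : Pt k A R}
    (hg : g ∈ U lamNeg R) : LowU F.w (F.ev g) := by
  obtain ⟨h, h0, hh⟩ := (mem_U lamNeg).1 hg
  rw [orb_negParam lam lamNeg hneg] at hh
  have e : ∀ i j, toL k R (h (F.a i j)) = AddMonoidAlgebra.single (F.w j - F.w i) (F.ev g i j) := by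
    intro i j
    have := congr($hh (F.a i j))
    rw [push_apply, push_apply, ← ev_apply F (orb lam R g), ev_orb] at this
    rw [this]
    refine LaurentPolynomial.ext fun n => ?_
    rw [AddMonoidAlgebra.coeff_single, Finsupp.single_apply]
    show (LaurentPolynomial.invert (AddMonoidAlgebra.single _ _ : R[T;T⁻¹])).coeff n = _
    rw [LaurentPolynomial.invert_apply, AddMonoidAlgebra.coeff_single, Finsupp.single_apply]
    split_ifs <;> first | rfl | omega
  refine ⟨fun i j hij => ?_, ?_⟩
  · have h1 : AddMonoidAlgebra.single (F.w j - F.w i) (F.ev g i j) ∈ (toL k R).range :=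
      ⟨_, e i j⟩
    have h2 := (mem_range_toL (k := k) _).1 h1 (F.w j - F.w i) (by omega)
    rwa [AddMonoidAlgebra.coeff_single, Finsupp.single_eq_same] at h2
  · ext i j
    rw [dg_apply]
    split_ifs with hij
    · have h1 : ev0 k R (h (F.a i j)) = (1 : Matrix F.ι F.ι R) i j := by
        rw [← F.ev_one (R := R)]
        exact congr($h0 (F.a i j))
      rw [ev0_apply, ← coeff_toL_zero (k := k), e, AddMonoidAlgebra.coeff_single,
        Finsupp.single_apply, if_pos (by omega)] at h1
      exact h1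
    · exact (Matrix.one_apply_ne fun hc => hij (by rw [hc])).symm

lemma adjoin_comp_eq {B : Type u} [CommRing B] [Algebra k B] (f g : A →ₐ[k] B)
    (hgen : Algebra.adjoin k (Set.range fun p : F.ι × F.ι => F.a p.1 p.2) = ⊤)
    (h : ∀ i j, f (F.a i j) = g (F.a i j)) : f = g :=
  AlgHom.ext_of_adjoin_eq_top hgen (by rintro _ ⟨p, rfl⟩; exact h p.1 p.2)

variable (hgen : Algebra.adjoin k (Set.range fun p : F.ι × F.ι => F.a p.1 p.2) = ⊤)

include hgen in
lemma mem_P_of_up {g : Pt k A R} (hg : Up F.w (F.ev g)) : g ∈ P lam R := by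
  rw [mem_P]
  have hle : (⊤ : Subalgebra k A) ≤ (toL k R).range.comap (orb lam R g).ofConv := by
    rw [← hgen, Algebra.adjoin_le_iff]
    rintro _ ⟨⟨i, j⟩, rfl⟩
    show F.ev (orb lam R g) i j ∈ (toL k R).range
    rw [ev_orb, mem_range_toL]
    intro n hn
    rw [AddMonoidAlgebra.coeff_single, Finsupp.single_apply]
    split_ifs with he
    · exact hg i j (by dsimp only; omega)
    · rfl
  obtain ⟨h, hh⟩ := exists_lift (orb lam R g).ofConv fun a n hn =>
    (mem_range_toL (k := k) _).1 (hle (Algebra.mem_top : a ∈ ⊤)) n hn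
  exact ⟨toConv h, WithConv.ofConv_injective hh⟩

include hgen in
lemma mem_U_of_lowU {lamNeg : A →ₐc[k] k[T;T⁻¹]}
    (hneg : (lamNeg : A →ₐ[k] k[T;T⁻¹]) = Dyn.negParam k A lam) {g : Pt k A R}
    (hg : LowU F.w (F.ev g)) : g ∈ U lamNeg R := by
  rw [mem_U, orb_negParam lam lamNeg hneg]
  have hle : (⊤ : Subalgebra k A) ≤
      (toL k R).range.comap (push (inv' k R) (orb lam R g)).ofConv := by
    rw [← hgen, Algebra.adjoin_le_iff]
    rintro _ ⟨⟨i, j⟩, rfl⟩
    show inv' k R (F.ev (orb lam R g) i j) ∈ (toL k R).range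
    rw [ev_orb, mem_range_toL]
    intro n hn
    show (LaurentPolynomial.invert (AddMonoidAlgebra.single _ _ : R[T;T⁻¹])).coeff n = _
    rw [LaurentPolynomial.invert_apply, AddMonoidAlgebra.coeff_single, Finsupp.single_apply]
    split_ifs with he
    · exact hg.tri i j (by omega)
    · rfl
  obtain ⟨h, hh⟩ := exists_lift (push (inv' k R) (orb lam R g)).ofConv fun a n hn =>
    (mem_range_toL (k := k) _).1 (hle (Algebra.mem_top : a ∈ ⊤)) n hn
  refine ⟨toConv h, WithConv.ofConv_injective (F.adjoin_comp_eq _ _ hgen fun i j => ?_),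
    WithConv.ofConv_injective hh⟩
  show ev0 k R (h (F.a i j)) = (1 : Pt k A R) (F.a i j)
  have hh' : toL k R (h (F.a i j)) = inv' k R (F.ev (orb lam R g) i j) := congr($hh (F.a i j))
  rw [ev_orb] at hh'
  rw [ev0_apply, ← coeff_toL_zero (k := k), hh', ← ev_apply F 1, ev_one]
  show (LaurentPolynomial.invert (AddMonoidAlgebra.single _ _ : R[T;T⁻¹])).coeff 0 = _
  rw [LaurentPolynomial.invert_apply, AddMonoidAlgebra.coeff_single, Finsupp.single_apply]
  have hd := congr_fun (congr_fun hg.diag i) j
  rw [dg_apply] at hd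
  rw [← hd]
  split_ifs <;> first | rfl | omega

end WFam

/-- A stable finite dimensional space gives a weight corepresentation. -/
lemma exists_wfam (W : Submodule k A) [Module.Finite k W]
    (hW : ∀ x ∈ W, Coalgebra.comul (R := k) x ∈ LinearMap.range (W.subtype.rTensor A)) :
    ∃ F : WFam lam, Submodule.span k (Set.range F.m) = W := by
  classical
  set X : Set A := {y | ∃ x ∈ W, ∃ n, rproj lam n x = y} with hX
  have hXW : X ⊆ W := by
    rintro _ ⟨x, hx, n, rfl⟩
    rw [rproj_eq]
    obtain ⟨t, ht⟩ := hW x hx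
    rw [← ht]
    clear ht
    induction t using TensorProduct.induction_on with
    | zero => simp
    | add s t hs ht => simp only [map_add]; exact W.add_mem hs ht
    | tmul y z =>
      rw [LinearMap.rTensor_tmul, LinearMap.lTensor_tmul, TensorProduct.rid_tmul]
      exact W.smul_mem _ y.2
  have hspan : Submodule.span k X = W := by
    refine le_antisymm (Submodule.span_le.2 hXW) fun x hx => ?_
    have h : x = ∑ n ∈ (rA lam x).coeff.support, rproj lam n x := by
      have h1 : ev1 (k := k) A (rA lam x) = x := by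
        have h2 : push (ev1 A) (push (Cc A) (toConv (AlgHom.id k A)) * L lam A) =
            toConv (AlgHom.id k A) := by
          rw [map_mul, push_ev1_L, mul_one, push_push]
          refine WithConv.ofConv_injective (AlgHom.ext fun a => ?_)
          exact ev1_single (k := k) 0 a
        exact congr($h2 x)
      conv_lhs => rw [← h1, ev1_eq_sum (k := k) _ _ Finset.Subset.rfl]
      rfl
    rw [h]
    exact Submodule.sum_mem _ fun n _ => Submodule.subset_span ⟨x, hx, n, rfl⟩
  obtain ⟨b, hbX, hbspan, hbli⟩ := exists_linearIndependent k X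
  have hbW : ∀ i : b, (i : A) ∈ W := fun i => hXW (hbX i.2)
  have hliW : LinearIndependent k (fun i : b => (⟨i, hbW i⟩ : W)) :=
    LinearIndependent.of_comp W.subtype hbli
  haveI : Finite b := hliW.finite
  letI : Fintype b := Fintype.ofFinite b
  have hrange : Submodule.span k (Set.range (Subtype.val : b → A)) = W := by
    rw [Subtype.range_coe, hbspan, hspan]
  have hex : ∀ t : W ⊗[k] A, ∃ x : b → A, W.subtype.rTensor A t = ∑ i : b, (i : A) ⊗ₜ[k] x i := by
    intro t
    induction t using TensorProduct.induction_on with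
    | zero => exact ⟨0, by simp⟩
    | add s t hs ht =>
      obtain ⟨x, hx⟩ := hs
      obtain ⟨y, hy⟩ := ht
      exact ⟨x + y, by simp only [map_add, hx, hy, Pi.add_apply, TensorProduct.tmul_add,
        Finset.sum_add_distrib]⟩
    | tmul y z =>
      have hy : (y : A) ∈ Submodule.span k (Set.range (Subtype.val : b → A)) := by
        rw [hrange]; exact y.2
      obtain ⟨c, hc⟩ := (Submodule.mem_span_range_iff_exists_fun k).1 hy
      refine ⟨fun i => c i • z, ?_⟩
      rw [LinearMap.rTensor_tmul, Submodule.subtype_apply, ← hc, TensorProduct.sum_tmul]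
      exact Finset.sum_congr rfl fun i _ => TensorProduct.smul_tmul _ _ _
  have hwt : ∀ i : b, ∃ n, rA lam (i : A) = AddMonoidAlgebra.single n (i : A) := fun i => by
    obtain ⟨x, -, n, hn⟩ := hbX i.2
    exact ⟨n, by rw [← hn, rA_rproj]⟩
  choose w hw using hwt
  have hΔ : ∀ j : b, ∃ x : b → A, Coalgebra.comul (R := k) (j : A) = ∑ i : b, (i : A) ⊗ₜ[k] x i :=
    fun j => by
      obtain ⟨t, ht⟩ := hW j (hbW j)
      obtain ⟨x, hx⟩ := hex t
      exact ⟨x, ht.symm.trans hx⟩
  choose a ha using hΔ
  exact ⟨{ ι := b, m := Subtype.val, w := w, a := Matrix.of fun i j => a j i, rA_m := hw,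
           li := hbli, comul_m := ha }, hrange⟩

variable (lam) in
/-- A weight corepresentation whose entries generate. -/
lemma exists_gen_wfam [Algebra.FiniteType k A] :
    ∃ F : WFam lam, Algebra.adjoin k (Set.range fun p : F.ι × F.ι => F.a p.1 p.2) = ⊤ := by
  classical
  obtain ⟨s, hs⟩ := (‹Algebra.FiniteType k A›).out
  obtain ⟨S, hS, hfin⟩ := Comod.exists_finite_subcomod_finset (K := k) (C := A) (V := A) s
  obtain ⟨F, hF⟩ := exists_wfam (lam := lam) (Comod.ofDSub S)
    (fun x hx => Comod.isSubcomod_ofDSub S x hx)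
  refine ⟨F, top_le_iff.1 ?_⟩
  rw [← hs, Algebra.adjoin_le_iff]
  intro x hx
  have hxS : x ∈ Submodule.span k (Set.range F.m) := hF.symm ▸ hS x hx
  refine (Submodule.span_le (p := Subalgebra.toSubmodule (Algebra.adjoin k
    (Set.range fun p : F.ι × F.ι => F.a p.1 p.2)))).2 ?_ hxS
  rintro _ ⟨j, rfl⟩
  have h := congr(TensorProduct.lid k A $(Coalgebra.rTensor_counit_comul (R := k) (F.m j)))
  rw [F.comul_m, map_sum, map_sum] at h
  simp only [LinearMap.rTensor_tmul, TensorProduct.lid_tmul, one_smul] at h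
  rw [← h]
  refine Subalgebra.sum_mem _ fun i _ => Subalgebra.smul_mem _ (Algebra.subset_adjoin ?_) _
  exact ⟨(i, j), rfl⟩

end Groth.Agent.Dynamic
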